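import Cfsg.Agent.BpExc.AsmN_m3
import Cfsg.Agent.BpExc.RowsN
import Cfsg.Agent.H711.Crit_m3
import Cfsg.Agent.H129.TorusChar
import Cfsg.Agent.H681.GmnRankOne
import Cfsg.Agent.Lib.FinFast
import Cfsg.Agent.FastGrp
import Cfsg.Agent.Prune
set_option linter.all false

section
prune_inst 0x7fb0fefbaff8addfffff7ffffedfdffc09d19fffe6dff94b7fe8f1ff3bdf23000de5fb8d8de012ff0ef662b410b87853ff7ecfffeb6bdc7ffffd5ff45ffbee0fe5f7bb8911d688340f300fffe3f07f8e7f3fffffffffffffffffffffffffffbeffffffffffff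

-- part: H696/GmnUntw
section
prune_inst 0x400100400002200000000001002003f4286000092004b0800400000400580ac0000000721000000108010aa440030000813000140423000000a000800011d0080004146028248a008c00000000000000000000000000000000000000000000000000000000
set_option linter.all false
open scoped Cfsg.Agent.FastGrp

/-!
# Guralnick-Malle-Navarro rows: `G₂`, `F₄`, `E₈`, and fusion in the untwisted groups

* `torus_range` : the `d`-th powers of the fixed elements of the torus come from the finite torus;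
* `pow_mem_range` : so do the `d`-th powers of the fixed elements of `D.group k`;
* `isConj_inv`, `isConj_pow` : fusion of the elements of prime order in `D.group F`;
* `rowS_g2`, `rowS_f4`, `rowS_e8`.
-/

set_option autoImplicit false
set_option linter.unusedSectionVars false

namespace Cfsg.Agent.H696.GmnUntw

open CoxeterSystem Subgroup Cfsg Cfsg.Lie Cfsg.Lie.ChevalleyDatum
open Cfsg.Agent.ChevalleyStructure Cfsg.Agent.ChevalleyStructure.Elts Cfsg.Agent.ChevalleyStructure.CoxeterGeom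
  Cfsg.Agent.ChevalleyStructure.CoxeterGeomTypes Cfsg.Agent.ChevalleyStructure.NPerm
open Cfsg.Agent.Tits.Roots Cfsg.Agent.Tits.Core Cfsg.Agent.Nodes Cfsg.Agent.Nodes.Reps Cfsg.Agent.Nodes.BNOf
  Cfsg.Agent.Nodes.RGDChev Cfsg.Agent.Nodes.Bruhat
open Cfsg.Agent.KFacts.RgdField Cfsg.Agent.KFacts.RgdChevCoord
open Cfsg.Agent.GpExc.Field (glMap emb coe_emb glMap_xG emb_injective coe_glMap)
open Cfsg.Agent.BpExc Cfsg.Agent.BpExc.TorCent Cfsg.Agent.BpExc.TorChev Cfsg.Agent.BpExc.Tow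
open Cfsg.Agent.BpExc.TowChev Cfsg.Agent.BpExc.Fr Cfsg.Agent.BpExc.LangFr
open Cfsg.Agent.BpExc.FamUntw Cfsg.Agent.BpExc.FamInst Cfsg.Agent.BpExc.FamExt Cfsg.Agent.BpExc.FamField
open Cfsg.Agent.BpExc.RowsUntw
open Cfsg.Agent.H696.GmnToral Cfsg.Agent.H712.Gmn

universe u v

variable {D : ChevalleyDatum} {l : ℕ} {M : CoxeterMatrix (Fin l)} (hp : IsType D l M)

section Gen

variable {k : Type u} [Field k] [IsAlgClosed k] (hk : LocFin k) {F : Type u} [Field F] [Fintype F] (f : F →+* k)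
  (r : ℕ) [Fact r.Prime] [CharP k r] [CharP F r] {W : Type v} [Group W] (cs : CoxeterSystem M W)

include hk r in
/-- The character of a product of simple characters. -/
theorem ch_prod {t : ↥(D.group k)} (ht : t ∈ TT D k) {a : Fin l → ℤ} (ha : IsRoot cs hp.isCartan a) :
    ch hp a t = ∏ i, ch hp (sr i) t ^ a i := by
  obtain ⟨φ, h0, hadd, hφ⟩ := chAddL hp cs hk r t ht
  have hne : ∀ x, φ x ≠ 0 := by
    intro x hx
    have := hadd x (-x)
    rw [hx, zero_mul, add_neg_cancel, h0] at this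
    exact one_ne_zero this
  -- `φ` is a homomorphism to the units
  let ψ : Multiplicative (Fin l → ℤ) →* kˣ :=
    { toFun := fun x => Units.mk0 (φ x.toAdd) (hne _)
      map_one' := Units.ext h0
      map_mul' := fun x y => Units.ext (hadd _ _) }
  have h1 : ψ (Multiplicative.ofAdd a) = ∏ i, ψ (Multiplicative.ofAdd (sr i)) ^ a i := by
    have h2 : a = ∑ i, a i • sr i := by
      funext m
      rw [Finset.sum_apply, Finset.sum_eq_single m]
      · rw [Pi.smul_apply, sr_self, smul_eq_mul, mul_one]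
      · intro b _ hb
        rw [Pi.smul_apply, sr_ne (Ne.symm hb), smul_zero]
      · intro h; exact absurd (Finset.mem_univ m) h
    conv_lhs => rw [h2]
    rw [ofAdd_sum, map_prod]
    refine Finset.prod_congr rfl fun i _ => ?_
    rw [ofAdd_zsmul, map_zpow]
  have h3 := congrArg Units.val h1
  rw [Units.coe_prod] at h3
  have h4 : ch hp a t = ((ψ (Multiplicative.ofAdd a) : kˣ) : k) := hφ a ha
  rw [h4, h3]
  refine Finset.prod_congr rfl fun i _ => ?_
  rw [Units.val_zpow_eq_zpow_val]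
  congr 1
  exact (hφ _ (isRoot_sr cs hp.isCartan i)).symm

include hk cs in
/-- The `d`-th powers of the fixed elements of the torus come from the finite torus. -/
theorem torus_range {d : ℕ} {B : Fin l → Fin l → ℤ} (hB : InvC D l d B) (hd : d ≠ 0)
    (hZ : center ↥(D.group k) = ⊥) {n : ℕ} (hn : Fintype.card F = r ^ n) {t : ↥(D.group k)} (ht : t ∈ TT D k)
    (hσt : phi D k r n t = t) : ∃ s ∈ TT D F, emb hp.inList f s = t ^ d := by
  have hc : ∀ i, ∃ c : F, f c = ch hp (sr i) t := by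
    intro i
    have hi := isRoot_sr cs hp.isCartan i
    have h1 := fr_ch hp cs hk (phi_isFrob r n) (phi_fr hp cs r hk n) hi ht
    rw [hσt] at h1
    have h2 : ch hp (sr i) t ^ Fintype.card F = ch hp (sr i) t := by rw [hn]; exact h1.symm
    exact Emb.mem_range_of_pow f h2
  choose c hc using hc
  have hc0 : ∀ i, c i ≠ 0 := by
    intro i h0
    have h1 := ch_ne_zero hp cs hk r (isRoot_sr cs hp.isCartan i) ht
    rw [← hc i, h0, map_zero] at h1
    exact h1 rfl
  obtain ⟨a, ha, ha'⟩ := exists_sol hB (fun i => c i ^ d) (fun i => pow_ne_zero d (hc0 i)) (fun i => ⟨c i, rfl⟩) hd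
  obtain ⟨s, hs, hs'⟩ := exists_tor hp a ha Finset.univ
  refine ⟨s, hs, ?_⟩
  have hst : emb hp.inList f s ∈ TT D k := GpExc.Field.emb_T hp f ⟨s, hs, rfl⟩
  refine ext_TT hp cs hk r hZ hst (pow_mem ht d) fun x hx => ?_
  obtain ⟨j, hj, rfl⟩ := (isRoot_iff hp cs x).1 hx
  have h1 : ch hp (vec D l j) (emb hp.inList f s) = f (∏ i, (c i ^ d) ^ (vec D l j) i) := by
    refine ch_eq hp hj hst ?_
    have h2 := congrArg (emb hp.inList f) (hs' j hj 1)
    rw [map_mul, map_mul, map_inv, FamExt.emb_xc hp f hj, FamExt.emb_xc hp f hj, map_one, mul_one, ha'] at h2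
    exact h2
  rw [h1, ch_pow hp cs hk r hx ht, ch_prod hp hk r cs ht hx, map_prod, ← Finset.prod_pow]
  refine Finset.prod_congr rfl fun i _ => ?_
  rw [map_zpow₀, map_pow, hc i, ← zpow_natCast, ← zpow_natCast, ← zpow_mul, ← zpow_mul, mul_comm]

omit [IsAlgClosed k] in
theorem pow_mem_of {Y : Type*} [Group Y] {N : Subgroup Y} {a t : Y} (ha : a ∈ N)
    (hn : ∀ b ∈ N, t * b * t⁻¹ ∈ N) {m : ℕ} (hm : t ^ m ∈ N) : (a * t) ^ m ∈ N := by
  have hn' : ∀ j : ℕ, ∀ b ∈ N, t ^ j * b * (t ^ j)⁻¹ ∈ N := by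
    intro j
    induction j with
    | zero => intro b hb; simpa using hb
    | succ j ih =>
      intro b hb
      have h1 := hn _ (ih b hb)
      have e : t ^ (j + 1) * b * (t ^ (j + 1))⁻¹ = t * (t ^ j * b * (t ^ j)⁻¹) * t⁻¹ := by
        rw [pow_succ']; group
      rwa [e]
  have key : ∀ j : ℕ, ∃ b ∈ N, (a * t) ^ j = b * t ^ j := by
    intro j
    induction j with
    | zero => exact ⟨1, one_mem _, by simp⟩
    | succ j ih =>
      obtain ⟨b, hb, e⟩ := ih
      refine ⟨b * (t ^ j * a * (t ^ j)⁻¹), mul_mem hb (hn' j a ha), ?_⟩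
      rw [pow_succ, e, pow_succ]
      group
  obtain ⟨b, hb, e⟩ := key m
  rw [e]
  exact mul_mem hb hm

/-- the Frobenius homomorphism as a ring homomorphism -/
noncomputable abbrev frh (k : Type u) [Field k] (r : ℕ) [Fact r.Prime] [CharP k r] [PerfectRing k r] (n : ℕ) : k →+* k :=
  ((frb k r n : k ≃+* k) : k →+* k)

theorem frh_apply {n : ℕ} (hn : Fintype.card F = r ^ n) (t : k) : frh k r n t = t ^ Fintype.card F := by
  rw [hn]
  exact frb_apply _ r n t

theorem phi_glMap (n : ℕ) (y : ↥(D.group k)) :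
    ((phi D k r n y : ↥(D.group k)) : GL D.Idx k) = glMap D (frh k r n) (y : GL D.Idx k) := by
  apply Units.ext
  rfl

theorem phi_emb' {n : ℕ} (hn : Fintype.card F = r ^ n) (a : ↥(D.group F)) :
    phi D k r n (emb hp.inList f a) = emb hp.inList f a :=
  Emb.emb_fix hp.inList (frh_apply r hn) (phi_glMap r n) a

include hk cs in
/-- The `d`-th powers of the fixed elements come from the finite group. -/
theorem pow_mem_range {d : ℕ} {B : Fin l → Fin l → ℤ} (hB : InvC D l d B) (hd : d ≠ 0)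
    (hZ : center ↥(D.group k) = ⊥) {n : ℕ} (hn : Fintype.card F = r ^ n) {y : ↥(D.group k)}
    (hy : phi D k r n y = y) : ∃ s : ↥(D.group F), emb hp.inList f s = y ^ d := by
  have hy' : glMap D (frh k r n) (y : GL D.Idx k) = y := by rw [← phi_glMap r n y, hy]
  obtain ⟨a, ha, t, ht, e⟩ := EmbSplit.untw_split hp.inList (Emb.fix_iff_range (f := f) (frh_apply r hn)) y.2 hy'
  have hta : t ∈ D.group k := by
    have h1 : t = ((emb hp.inList f ⟨a, ha⟩ : ↥(D.group k)) : GL D.Idx k)⁻¹ * y := by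
      rw [coe_emb]
      exact eq_inv_mul_of_mul_eq e.symm
    rw [h1]
    exact mul_mem (inv_mem (SetLike.coe_mem _)) y.2
  have e' : y = emb hp.inList f ⟨a, ha⟩ * ⟨t, hta⟩ := Subtype.ext e
  have hσt : phi D k r n ⟨t, hta⟩ = ⟨t, hta⟩ := by
    have h1 := hy
    rw [e', map_mul, phi_emb' hp f r hn] at h1
    exact mul_left_cancel h1
  obtain ⟨s, -, hs⟩ := torus_range hp hk f r cs hB hd hZ hn (t := ⟨t, hta⟩) (Subgroup.mem_subgroupOf.2 ht) hσt
  have h1 : y ^ d ∈ (emb hp.inList f).range := by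
    rw [e']
    refine pow_mem_of (N := (emb hp.inList f).range) ⟨_, rfl⟩ (fun b hb => ?_) ⟨s, hs⟩
    exact Emb.conj_mem_range hp.inList (f := f) (frh_apply r hn) (phi_glMap r n) hσt hb
  exact h1

end Gen

section Cl

variable {r : ℕ} [Fact r.Prime] {F : Type} [Field F] [Fintype F] [CharP F r]

/-- iterating a conjugation -/
theorem conj_iter {Y : Type*} [Group Y] {x y : Y} {m : ℤ} (h : y⁻¹ * x * y = x ^ m) (d : ℕ) :
    (y ^ d)⁻¹ * x * y ^ d = x ^ (m ^ d) := by
  induction d with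
  | zero => simp
  | succ d ih =>
    have e : (y ^ (d + 1))⁻¹ * x * y ^ (d + 1) = y⁻¹ * ((y ^ d)⁻¹ * x * y ^ d) * y := by
      rw [pow_succ]; group
    have e2 : y⁻¹ * x ^ (m ^ d) * y = (y⁻¹ * x * y) ^ (m ^ d) := by
      have := (conj_zpow (a := y⁻¹) (b := x) (i := m ^ d))
      rw [inv_inv] at this
      exact this.symm
    rw [e, ih, e2, h, ← zpow_mul, ← pow_succ']

include hp in
/-- **Fusion in the finite group.** -/
theorem isConj_of {d : ℕ} {B : Fin l → Fin l → ℤ} (hB : InvC D l d B) (hd : d ≠ 0)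
    (hZ : center ↥(D.group (AlgebraicClosure (ZMod r))) = ⊥) {p : ℕ} (hpp : p.Prime) (hpr : p ≠ r)
    {z : ↥(D.group F)} (hz : z ^ p = 1) {m : ℤ}
    (hm : ∀ {k : Type} [Field k] [IsAlgClosed k] [CharP k r] (_ : LocFin k) (_ : center ↥(D.group k) = ⊥)
      (n : ℕ) (_ : 0 < n) (_ : Fintype.card F = r ^ n) (x : ↥(D.group k)) (_ : phi D k r n x = x)
      (w : ↥(D.group k)) (_ : w⁻¹ * x * w ∈ TT D k), ∃ y, phi D k r n y = y ∧ y⁻¹ * x * y = x ^ m) :
    IsConj z (z ^ (m ^ d)) := by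
  obtain ⟨f⟩ := exists_emb r F
  obtain ⟨n, hn0, hn⟩ := exists_card (F := F) r
  have hk : LocFin (AlgebraicClosure (ZMod r)) := locFin_of_isAlgebraic r _
  have hq : Fintype.card F = r ^ n := by rw [← hn, Nat.card_eq_fintype_card]
  obtain ⟨w, hw⟩ := TorAll.exists_toral' hp r hpp hpr (y := emb hp.inList f z) (by rw [← map_pow, hz, map_one])
  obtain ⟨y, hy, hyz⟩ := hm hk hZ n hn0 hq _ (phi_emb' hp f r hq z) w hw
  obtain ⟨s, hs⟩ := pow_mem_range hp hk f r M.toCoxeterSystem hB hd hZ hq hy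
  have h1 := conj_iter hyz d
  rw [← hs, ← map_zpow, ← map_inv, ← map_mul, ← map_mul] at h1
  have h2 := emb_injective hp.inList f h1
  rw [isConj_iff]
  exact ⟨s⁻¹, by rw [inv_inv]; exact h2⟩

include hp in
/-- `-1 ∈ W`: elements of order `p` are conjugate to their inverses when the index is odd. -/
theorem isConj_inv {d : ℕ} {B : Fin l → Fin l → ℤ} (hB : InvC D l d B) (hd : Odd d)
    (hZ : center ↥(D.group (AlgebraicClosure (ZMod r))) = ⊥)
    (hneg : ∃ w : M.Group, ∀ a, IsRoot M.toCoxeterSystem hp.isCartan a → rep M.toCoxeterSystem hp.isCartan w a = -a)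
    {p : ℕ} (hpp : p.Prime) (hpr : p ≠ r) {z : ↥(D.group F)} (hz : z ^ p = 1) : IsConj z z⁻¹ := by
  have h1 := isConj_of hp hB hd.pos.ne' hZ hpp hpr hz (m := -1) (fun hk hZ n hn0 hq x hx w hw => by
    obtain ⟨y, h1, h2⟩ := real_of_neg hp M.toCoxeterSystem hk hZ hn0 (phi_isFrob r n)
      (phi_fr hp M.toCoxeterSystem r hk n) hx hw hneg
    exact ⟨y, h1, by rw [h2, zpow_neg_one]⟩)
  rwa [hd.neg_one_pow, zpow_neg_one] at h1

include hp in
/-- Elements of order `p` are conjugate to their `q ^ d`-th powers. -/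
theorem isConj_pow {d : ℕ} {B : Fin l → Fin l → ℤ} (hB : InvC D l d B) (hd : d ≠ 0)
    (hZ : center ↥(D.group (AlgebraicClosure (ZMod r))) = ⊥)
    {p : ℕ} (hpp : p.Prime) (hpr : p ≠ r) {z : ↥(D.group F)} (hz : z ^ p = 1) :
    IsConj z (z ^ (Fintype.card F ^ d)) := by
  have h1 := isConj_of hp hB hd hZ hpp hpr hz (m := (Fintype.card F : ℤ)) (fun hk hZ n hn0 hq x hx w hw => by
    obtain ⟨y, h1, h2⟩ := conj_pow_of_mem hp M.toCoxeterSystem hk hZ hn0 (phi_isFrob r n)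
      (phi_fr hp M.toCoxeterSystem r hk n) hx hw ⟨1, fun a _ => by rw [map_one, Module.End.one_apply]; rfl⟩
    exact ⟨y, h1, by rw [h2, hq]; push_cast; rfl⟩)
  rw [← Nat.cast_pow, zpow_natCast] at h1
  exact h1

end Cl

/-! ### the rows -/

theorem center_eq_bot_of_simple {G : Type*} [Group G] (h : IsSimpleGroup G ∧ ¬ IsMulCommutative G) :
    center G = ⊥ := by
  obtain ⟨h1, h2⟩ := h
  rcases (inferInstance : (center G).Normal).eq_bot_or_eq_top with h3 | h3
  · exact h3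
  · exfalso
    apply h2
    refine ⟨⟨fun a b => ?_⟩⟩
    have : b ∈ center G := by rw [h3]; trivial
    exact mem_center_iff.1 this a

section Rows

variable {p : ℕ} [Fact p.Prime] (hp2 : p ≠ 2) {r : ℕ} [Fact r.Prime] (hpr : p ≠ r) (F : Type) [Field F] [Fintype F]
  [CharP F r]

include hp2 hpr in
theorem rowS_g2 (h3 : 3 ≤ Fintype.card F) (hd : p ∣ Nat.card ↥(chevG2.group F)) : RowS p ↥(chevG2.group F) :=
  RowS.of_real hp2 (center_eq_bot_of_simple (S1055.result (RowsUntw.exists_ne h3))) hd fun _ _ hz =>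
    isConj_inv g2T inv_G2 odd_one (center_eq_bot_of_simple (S1055.result (exists_ne_algClosed _)))
      (GmnNeg.negG2 g2T _) Fact.out hpr hz

include hp2 hpr in
theorem rowS_f4 (hd : p ∣ Nat.card ↥(chevF4.group F)) : RowS p ↥(chevF4.group F) :=
  RowS.of_real hp2 (center_eq_bot_of_simple (S1054.result chevF4 (by simp))) hd fun _ _ hz =>
    isConj_inv f4T inv_F4 odd_one (center_eq_bot_of_simple (S1054.result chevF4 (by simp)))
      (GmnNeg.negF4 f4T _) Fact.out hpr hz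

include hp2 hpr in
theorem rowS_e8 (hd : p ∣ Nat.card ↥(chevE8.group F)) : RowS p ↥(chevE8.group F) :=
  RowS.of_real hp2 (center_eq_bot_of_simple (S1054.result chevE8 (by simp))) hd fun _ _ hz =>
    isConj_inv e8T inv_E8 odd_one (center_eq_bot_of_simple (S1054.result chevE8 (by simp)))
      (GmnNeg.negE8 e8T _) Fact.out hpr hz

end Rows

end Cfsg.Agent.H696.GmnUntw
end

-- part: H696/GmnTor
section
prune_inst 0xf0004500612200000000001200002220000000020040080040a0000201098220a00321010a00011018140c000000000002000040400000000a000000000001000040420013400104200000001000000000000000000000000000000000000000000000000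
set_option linter.all false
open scoped Cfsg.Agent.FastGrp

/-!
# The centraliser of the `p`-torsion of the torus (`p` odd)

* `minkowski` : an element of `W` congruent to `1` modulo the odd prime `p` is trivial;
* `exists_tt` : torus elements with given simple characters (algebraically closed field);
* `cent_tors` : an element commuting with all `p`-torsion elements of the torus lies in the torus.
-/

set_option autoImplicit false
set_option linter.unusedSectionVars false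

namespace Cfsg.Agent.H696.GmnTor

open CoxeterSystem Subgroup Cfsg Cfsg.Lie Cfsg.Lie.ChevalleyDatum
open Cfsg.Agent.ChevalleyStructure Cfsg.Agent.ChevalleyStructure.Elts Cfsg.Agent.ChevalleyStructure.CoxeterGeom
  Cfsg.Agent.ChevalleyStructure.CoxeterGeomTypes Cfsg.Agent.ChevalleyStructure.NPerm
open Cfsg.Agent.Tits.Roots Cfsg.Agent.Tits.Core Cfsg.Agent.Nodes Cfsg.Agent.Nodes.Reps Cfsg.Agent.Nodes.BNOf
  Cfsg.Agent.Nodes.RGDChev Cfsg.Agent.Nodes.Bruhat Cfsg.Agent.Nodes.NormalForm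
open Cfsg.Agent.KFacts.RgdField Cfsg.Agent.KFacts.RgdChevCoord
open Cfsg.Agent.GpExc.Field (glMap emb coe_emb glMap_xG emb_injective coe_glMap)
open Cfsg.Agent.BpExc Cfsg.Agent.BpExc.TorCent Cfsg.Agent.BpExc.TorChev Cfsg.Agent.BpExc.Tow
open Cfsg.Agent.BpExc.TowChev Cfsg.Agent.BpExc.Fr Cfsg.Agent.BpExc.LangFr
open Cfsg.Agent.BpExc.FamUntw Cfsg.Agent.BpExc.FamInst Cfsg.Agent.BpExc.FamExt Cfsg.Agent.BpExc.FamField
open Cfsg.Agent.BpExc.RowsUntw
open Cfsg.Agent.H696.GmnToral Cfsg.Agent.H696.GmnUntw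
open Cfsg.Agent.H129.TorusChar (cX IsMC cX_root exists_cX)

universe u v

section Mink

variable {I W : Type*} [Fintype I] [DecidableEq I] [Group W] {M : CoxeterMatrix I}
  {cs : CoxeterSystem M W} {A : I → I → ℤ} {h : IsCartan M A}

/-- a root is not divisible -/
theorem not_dvd_root {a : I → ℤ} (ha : IsRoot cs h a) {p : ℤ} (hp : ¬ IsUnit p) : ∃ i, ¬ p ∣ a i := by
  by_contra hcon
  push Not at hcon
  choose b hb using hcon
  obtain ⟨w, i, rfl⟩ := ha
  have h1 : rep cs h w (sr i) = p • b := funext hb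
  have h2 : (sr i : I → ℤ) = p • rep cs h w⁻¹ b := by
    rw [← map_smul, ← h1, ← rep_mul_apply, inv_mul_cancel, map_one, Module.End.one_apply]
  have h3 := congrFun h2 i
  rw [sr_self, Pi.smul_apply, smul_eq_mul] at h3
  exact hp (IsUnit.of_mul_eq_one _ h3.symm)

/-- congruence to `1` on the whole lattice -/
theorem cong_all {p : ℤ} {w : W} (hw : ∀ a, IsRoot cs h a → ∀ i, p ∣ (rep cs h w a - a) i) (x : I → ℤ) :
    ∃ y : I → ℤ, rep cs h w x = x + p • y := by
  have h1 : ∀ j, ∃ y : I → ℤ, rep cs h w (sr j) = sr j + p • y := by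
    intro j
    choose y hy using hw _ (isRoot_sr cs h j)
    refine ⟨y, ?_⟩
    rw [← sub_eq_iff_eq_add']
    exact funext hy
  choose y hy using h1
  refine ⟨∑ j, x j • y j, ?_⟩
  calc rep cs h w x = rep cs h w (∑ k, x k • sr k) := by rw [← Cfsg.Agent.Nodes.eq_sum_sr x]
    _ = (∑ k, x k • sr k) + p • ∑ j, x j • y j := by
        rw [map_sum, Finset.smul_sum, ← Finset.sum_add_distrib]
        refine Finset.sum_congr rfl fun j _ => ?_
        rw [map_smul, hy j, smul_add, smul_comm]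
    _ = x + p • ∑ j, x j • y j := by rw [← Cfsg.Agent.Nodes.eq_sum_sr x]

theorem cong_pow {p : ℤ} {w : W} (hw : ∀ x : I → ℤ, ∃ y : I → ℤ, rep cs h w x = x + p • y) (n : ℕ) (x : I → ℤ) :
    ∃ y : I → ℤ, rep cs h (w ^ n) x = x + p • y := by
  induction n with
  | zero => exact ⟨0, by rw [pow_zero, map_one, Module.End.one_apply, smul_zero, add_zero]⟩
  | succ n ih =>
    obtain ⟨y, hy⟩ := ih
    obtain ⟨y1, hy1⟩ := hw x
    obtain ⟨y2, hy2⟩ := hw y
    refine ⟨y1 + rep cs h w y, ?_⟩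
    rw [pow_succ', rep_mul_apply, hy, map_add, map_smul, hy1, smul_add, add_assoc]

theorem cong_two {p : ℤ} {w : W} (hw : ∀ x : I → ℤ, ∃ y : I → ℤ, rep cs h w x = x + p • y) {a b : I → ℤ}
    (hb : rep cs h w a = a + p • b) (n : ℕ) :
    ∃ c : I → ℤ, rep cs h (w ^ n) a = a + ((n : ℤ) * p) • b + (p * p) • c := by
  induction n with
  | zero => exact ⟨0, by rw [pow_zero, map_one, Module.End.one_apply]; simp⟩
  | succ n ih =>
    obtain ⟨c, hc⟩ := ih
    obtain ⟨y, hy⟩ := hw b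
    refine ⟨(n : ℤ) • y + rep cs h w c, ?_⟩
    rw [pow_succ', rep_mul_apply, hc, map_add, map_add, map_smul, map_smul, hb, hy]
    funext i
    simp only [Pi.add_apply, Pi.smul_apply, smul_eq_mul]
    push_cast
    ring

theorem cong_sum {p : ℤ} {w : W} (hw : ∀ x : I → ℤ, ∃ y : I → ℤ, rep cs h w x = x + p • y) {a b : I → ℤ}
    (hb : rep cs h w a = a + p • b) (n : ℕ) :
    ∃ c : I → ℤ, (2 : ℤ) • ∑ i ∈ Finset.range n, rep cs h (w ^ i) a =
      (2 * (n : ℤ)) • a + ((n : ℤ) * (n - 1) * p) • b + (p * p) • c := by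
  induction n with
  | zero => exact ⟨0, by simp⟩
  | succ n ih =>
    obtain ⟨c, hc⟩ := ih
    obtain ⟨y, hy⟩ := cong_two hw hb n
    refine ⟨c + (2 : ℤ) • y, ?_⟩
    rw [Finset.sum_range_succ, smul_add, hc, hy]
    funext i
    simp only [Pi.add_apply, Pi.smul_apply, smul_eq_mul]
    push_cast
    ring

/-- **Minkowski's lemma** for Weyl groups. -/
theorem minkowski [Finite W] {p : ℕ} (hpp : p.Prime) (hp2 : p ≠ 2) {w : W}
    (hw : ∀ a, IsRoot cs h a → ∀ i, (p : ℤ) ∣ (rep cs h w a - a) i) : w = 1 := by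
  by_contra hne
  have h1 := cong_all hw
  set m := orderOf w with hm
  have hm1 : m ≠ 1 := fun e => hne (orderOf_eq_one_iff.1 e)
  have hm0 : 0 < m := orderOf_pos w
  obtain ⟨l, hl, hlm⟩ := Nat.exists_prime_and_dvd hm1
  obtain ⟨c, hc⟩ := hlm
  have hc0 : 0 < c := Nat.pos_of_ne_zero fun e => by rw [e, mul_zero] at hc; omega
  have hw1 : w ^ c ≠ 1 := by
    intro e
    have h2 := orderOf_le_of_pow_eq_one hc0 e
    have h3 := hl.two_le
    have : m = l * c := hc
    nlinarith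
  have hwl : (w ^ c) ^ l = 1 := by rw [← pow_mul, mul_comm, ← hc, hm, pow_orderOf_eq_one]
  have h2 : ∀ x : I → ℤ, ∃ y : I → ℤ, rep cs h (w ^ c) x = x + (p : ℤ) • y := cong_pow h1 c
  obtain ⟨a, ha, ha0⟩ := Fix.exists_root_sum_eq_zero (cs := cs) (h := h) hw1 hl.pos hwl
  obtain ⟨b, hb⟩ := h2 a
  obtain ⟨y, hy⟩ := cong_sum h2 hb l
  rw [ha0, smul_zero] at hy
  obtain ⟨i, hi⟩ := not_dvd_root ha (p := (p : ℤ)) (fun hu => hpp.one_lt.ne' (by
    have := Int.isUnit_iff.1 hu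
    omega))
  have hpp' : Prime (p : ℤ) := Nat.prime_iff_prime_int.1 hpp
  have h2p : ¬ (p : ℤ) ∣ 2 := by
    intro hd
    have h3 : p ∣ 2 := by exact_mod_cast hd
    exact hp2 ((Nat.prime_dvd_prime_iff_eq hpp Nat.prime_two).1 h3)
  have hyi := congrFun hy i
  simp only [Pi.zero_apply, Pi.add_apply, Pi.smul_apply, smul_eq_mul] at hyi
  have h3 : (p : ℤ) ∣ 2 * l * a i := by
    refine ⟨-((l : ℤ) * (l - 1) * b i + p * y i), ?_⟩
    linarith
  have h4 : (p : ℤ) ∣ l := by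
    rcases hpp'.dvd_or_dvd h3 with h5 | h5
    · rcases hpp'.dvd_or_dvd h5 with h6 | h6
      · exact absurd h6 h2p
      · exact h6
    · exact absurd h5 hi
  have h5 : p ∣ l := by exact_mod_cast h4
  obtain rfl := (Nat.prime_dvd_prime_iff_eq hpp hl).1 h5
  have h6 : (p : ℤ) * (2 * a i) = p * (-(p * ((p - 1) * b i + y i))) := by linarith
  have h7 := mul_left_cancel₀ (by exact_mod_cast hpp.pos.ne') h6
  have h8 : (p : ℤ) ∣ 2 * a i := ⟨-((p - 1) * b i + y i), by rw [h7]; ring⟩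
  rcases hpp'.dvd_or_dvd h8 with h9 | h9
  · exact h2p h9
  · exact hi h9

end Mink

section Tors

variable {D : ChevalleyDatum} {l : ℕ} {M : CoxeterMatrix (Fin l)} (hp : IsType D l M) {k : Type u} [Field k]
  [IsAlgClosed k] (hk : LocFin k) (r : ℕ) [Fact r.Prime] [CharP k r] {W : Type v} [Group W] (cs : CoxeterSystem M W)

/-- torus elements with given simple characters -/
theorem exists_tt {d : ℕ} {B : Fin l → Fin l → ℤ} (hB : InvC D l d B) (hd : d ≠ 0) (c : Fin l → k)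
    (hc : ∀ i, c i ≠ 0) :
    ∃ t ∈ TT D k, ∀ a, IsRoot cs hp.isCartan a → ch hp a t = ∏ i, c i ^ a i := by
  obtain ⟨t, ht, htc⟩ := exists_cX hp (d := d) (B := B) hB hd (IsMC.of_prod c hc) (fun i =>
    IsAlgClosed.exists_pow_nat_eq _ (Nat.pos_of_ne_zero hd))
  exact ⟨t, ht, fun a ha => by rw [← cX_root hp cs ht ha, htc]⟩

/-- the `p`-torsion elements `t i` with `ch (sr j) (t i) = ζ ^ δ i j` -/
theorem exists_tors {d : ℕ} {B : Fin l → Fin l → ℤ} (hB : InvC D l d B) (hd : d ≠ 0) {ζ : k} (hζ : ζ ≠ 0) :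
    ∃ t : Fin l → ↥(D.group k), ∀ i, t i ∈ TT D k ∧ ∀ a, IsRoot cs hp.isCartan a → ch hp (a) (t i) = ζ ^ a i := by
  have h1 : ∀ i : Fin l, ∃ t ∈ TT D k, ∀ a, IsRoot cs hp.isCartan a → ch hp a t = ζ ^ a i := by
    intro i
    obtain ⟨t, ht, htc⟩ := exists_tt hp cs hB hd (fun j => if j = i then ζ else 1) (fun j => by
      split_ifs
      · exact hζ
      · exact one_ne_zero)
    refine ⟨t, ht, fun a ha => ?_⟩
    rw [htc a ha, Finset.prod_eq_single i]
    · rw [if_pos rfl]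
    · intro j _ hj
      rw [if_neg hj, one_zpow]
    · intro h; exact absurd (Finset.mem_univ i) h
  choose t ht using h1
  exact ⟨t, ht⟩

include hk r in
/-- **The centraliser of the `p`-torsion of the torus is the torus.** -/
theorem cent_tors [Finite W] {p : ℕ} (hpp : p.Prime) (hp2 : p ≠ 2) {ζ : k} (hζ : IsPrimitiveRoot ζ p)
    {t : Fin l → ↥(D.group k)} (ht : ∀ i, t i ∈ TT D k)
    (htc : ∀ i a, IsRoot cs hp.isCartan a → ch hp a (t i) = ζ ^ a i) {g : ↥(D.group k)}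
    (hg : ∀ i, g * t i = t i * g) : g ∈ TT D k := by
  classical
  set H := tow hp cs hk r (k := k) with hH
  have hTL : TL (Tj hp (k := k)) = TT D k := TL_eq hp hk
  have hXL : XL (Xj hp (k := k)) = XX D l k := XL_eq hp hk
  obtain ⟨j1, hj1⟩ := H.exists_level (S := fun j => (Tj hp (k := k) j : Set ↥(D.group k)))
    (fun _ _ h x hx => H.monoT h hx) (f := t) (fun i => by
      have := ht i
      rw [← hTL, H.mem_TL] at this
      exact this)
  have hgG : g ∈ GG cs hp.isCartan (TL (Tj hp (k := k))) (XL (Xj hp)) := by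
    rw [GG_eq_top hp cs hk]; trivial
  obtain ⟨j2, hj2⟩ := H.mem_GG.1 hgG
  obtain ⟨j, h1j, h2j⟩ := H.dir j1 j2
  have hS : Set.range t ⊆ (Tj hp (k := k) j : Set ↥(D.group k)) := by
    rintro _ ⟨i, rfl⟩
    exact H.monoT h1j (hj1 i)
  obtain ⟨u, hu, w, y, hy, hyc, v, hv, e⟩ := mem_centralizer (H.rgd j) hS (H.mono_GG h2j hj2)
    (Subgroup.mem_centralizer_iff.2 (by rintro _ ⟨i, rfl⟩; exact (hg i).symm))
  have hζ1 : ∀ n : ℤ, ζ ^ n = 1 → (p : ℤ) ∣ n := fun n hn => (hζ.zpow_eq_one_iff_dvd n).1 hn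
  have hζ0 : ζ ≠ 0 := hζ.ne_zero hpp.pos.ne'
  have hnu : ¬ IsUnit (p : ℤ) := fun hu => hpp.one_lt.ne' (by
    have := Int.isUnit_iff.1 hu
    omega)
  have C := coordsL hp cs hk r (k := k)
  have hbot : ∀ x ∈ RGD.Pos cs hp.isCartan, Xj hp j x ⊓ Subgroup.centralizer (Set.range t) = ⊥ := by
    intro x hx
    rw [eq_bot_iff]
    rintro u ⟨hu, hc⟩
    by_contra hu1
    obtain ⟨i, hi⟩ := not_dvd_root hx.1 hnu
    have h1 : u ∈ XX D l k x := by rw [← hXL]; exact le_XL j x hu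
    have h2 := mem_Sx_of_centralizer C (ht i) hx.1 h1 (by simpa using hu1)
      (Subgroup.mem_centralizer_singleton_iff.2 (Subgroup.mem_centralizer_iff.1 hc _ ⟨i, rfl⟩).symm)
    have h3 : ch hp x (t i) = 1 := h2.2
    rw [htc i x hx.1] at h3
    exact hi (hζ1 _ h3)
  have hsup : ∀ u ∈ RGD.Sup (fun x => Xj hp j x ⊓ Subgroup.centralizer (Set.range t)) (RGD.Pos cs hp.isCartan), u = 1 := by
    intro u hu
    have h1 : RGD.Sup (fun x => Xj hp j x ⊓ Subgroup.centralizer (Set.range t)) (RGD.Pos cs hp.isCartan) ≤ ⊥ :=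
      RGD.Sup_le fun x hx => (hbot x hx).le
    exact Subgroup.mem_bot.1 (h1 hu)
  rw [hsup u hu, hsup v hv, one_mul, mul_one] at e
  have hyw : Rp cs H.nsys w y := H.rp_up hy
  have hw1 : w = 1 := by
    refine minkowski (cs := cs) (h := hp.isCartan) hpp hp2 fun a ha i => ?_
    have C' : Coords cs hp.isCartan (TL (Tj hp (k := k))) (nc hp k) (XL (Xj hp (k := k))) (xc hp) (ch hp) := by
      rw [hTL, hXL]; exact coordsL hp cs hk r
    have h2 := C'.chi_rp H.nsys hyw ha (t := t i) (by rw [hTL]; exact ht i)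
    have h3 : y * t i * y⁻¹ = t i := by
      rw [← e, hg i]; group
    rw [h3, htc i _ (ha.act w), htc i a ha] at h2
    apply hζ1
    rw [Pi.sub_apply, zpow_sub₀ hζ0, h2, div_self (zpow_ne_zero _ hζ0)]
  rw [e, ← hTL]
  rw [hw1] at hyw
  exact hyw.mem_of_one

end Tors

end Cfsg.Agent.H696.GmnTor
end

-- part: H696/GmnInv
section
prune_inst 0x4c0100400012200000000000200003f4286000000000b00000000080004808c202002262134400100081000440030000813000000420000000a000000411d0180004044028308a10ca40000800804000000000000000000000000000000000000000000000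
set_option linter.all false
open scoped Cfsg.Agent.FastGrp

/-!
# `-1 ∈ W`, `p ∣ q ^ 2 - 1`: the row from one Sylow subgroup

* `rowS_of_inv` : a finite group containing the `p`-torsion of a torus `v T v⁻¹` and an element inverting it;
* `exists_rp_range` : representatives of `W` in the finite group;
* `sq_eq_one` : representatives of `-1` are involutions (simply laced, adjoint);
* `rowS_sub`, `rowS_add` : the rows for `p ∣ q - 1` and `p ∣ q + 1`.
-/

set_option autoImplicit false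
set_option linter.unusedSectionVars false

namespace Cfsg.Agent.H696.GmnInv

open CoxeterSystem Subgroup Cfsg Cfsg.Lie Cfsg.Lie.ChevalleyDatum
open Cfsg.Agent.ChevalleyStructure Cfsg.Agent.ChevalleyStructure.Elts Cfsg.Agent.ChevalleyStructure.CoxeterGeom
  Cfsg.Agent.ChevalleyStructure.CoxeterGeomTypes Cfsg.Agent.ChevalleyStructure.NPerm
open Cfsg.Agent.Tits.Roots Cfsg.Agent.Tits.Core Cfsg.Agent.Nodes Cfsg.Agent.Nodes.Reps Cfsg.Agent.Nodes.BNOf
  Cfsg.Agent.Nodes.RGDChev Cfsg.Agent.Nodes.Bruhat Cfsg.Agent.Nodes.NormalForm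
open Cfsg.Agent.KFacts.RgdField Cfsg.Agent.KFacts.RgdChevCoord
open Cfsg.Agent.GpExc.Field (glMap emb coe_emb glMap_xG emb_injective coe_glMap)
open Cfsg.Agent.BpExc Cfsg.Agent.BpExc.TorCent Cfsg.Agent.BpExc.TorChev Cfsg.Agent.BpExc.Tow
open Cfsg.Agent.BpExc.TowChev Cfsg.Agent.BpExc.Fr Cfsg.Agent.BpExc.LangFr
open Cfsg.Agent.BpExc.FamUntw Cfsg.Agent.BpExc.FamInst Cfsg.Agent.BpExc.FamExt Cfsg.Agent.BpExc.FamField
open Cfsg.Agent.BpExc.RowsUntw
open Cfsg.Agent.H696.GmnToral Cfsg.Agent.H696.GmnUntw Cfsg.Agent.H696.GmnTor Cfsg.Agent.H712.Gmn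

universe u v

variable {D : ChevalleyDatum} {l : ℕ} {M : CoxeterMatrix (Fin l)} (hp : IsType D l M) {k : Type u} [Field k]
  [IsAlgClosed k] (hk : LocFin k) (r : ℕ) [Fact r.Prime] [CharP k r] {W : Type v} [Group W] (cs : CoxeterSystem M W)

include hp cs hk r in
/-- **The central criterion**: a finite group containing the `p`-torsion of a torus and an element inverting it. -/
theorem rowS_of_inv {d : ℕ} {B : Fin l → Fin l → ℤ} (hB : InvC D l d B) (hd : d ≠ 0) {p : ℕ} [hpp : Fact p.Prime]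
    (hp2 : p ≠ 2) {ζ : k} (hζ : IsPrimitiveRoot ζ p) (hZ : center ↥(D.group k) = ⊥)
    {S : Type*} [Group S] [Finite S] (hZS : center S = ⊥)
    (hpS : p ∣ Nat.card S) (ι : S →* ↥(D.group k)) (hι : Function.Injective ι) (v : ↥(D.group k))
    (hT : ∀ t ∈ TT D k, t ^ p = 1 → v * t * v⁻¹ ∈ ι.range) (y : S)
    (hy : ∀ t ∈ TT D k, v⁻¹ * ι y * v * t * (v⁻¹ * ι y * v)⁻¹ = t⁻¹) : RowS p S := by
  have hfin : Finite W := finite_W hp cs
  -- the elementary abelian subgroup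
  let E : Subgroup S :=
    { carrier := {s | ∃ t ∈ TT D k, t ^ p = 1 ∧ ι s = v * t * v⁻¹}
      one_mem' := ⟨1, one_mem _, one_pow p, by rw [map_one]; group⟩
      mul_mem' := by
        rintro a b ⟨t, ht, h1, h2⟩ ⟨t', ht', h1', h2'⟩
        refine ⟨t * t', mul_mem ht ht', ?_, by rw [map_mul, h2, h2']; group⟩
        rw [(show Commute t t' from TT_comm hp t ht t' ht').mul_pow, h1, h1', one_mul]
      inv_mem' := by
        rintro a ⟨t, ht, h1, h2⟩
        exact ⟨t⁻¹, inv_mem ht, by rw [inv_pow, h1, inv_one], by rw [map_inv, h2]; group⟩ }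
  have hE : IsPGroup p E := by
    rintro ⟨s, t, ht, h1, h2⟩
    refine ⟨1, Subtype.ext (hι ?_)⟩
    show ι (s ^ p ^ 1) = ι 1
    rw [pow_one, map_pow, h2, map_one, conj_pow, h1]
    group
  obtain ⟨Q, hQ⟩ := hE.exists_le_sylow
  refine H681.GmnRankOne.rowS_of_central_real hp2 hZS hpS Q fun z _ _ hz hc => ?_
  obtain ⟨t, ht⟩ := exists_tors hp cs hB hd (hζ.ne_zero hpp.out.pos.ne')
  have htp : ∀ i, t i ^ p = 1 := fun i => by
    refine eq_one_TT hp cs hk r hZ (pow_mem (ht i).1 p) fun a ha => ?_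
    rw [ch_pow hp cs hk r ha (ht i).1, (ht i).2 a ha, ← zpow_natCast, ← zpow_mul, mul_comm, zpow_mul, zpow_natCast,
      hζ.pow_eq_one, one_zpow]
  have h1 : ∀ i, (v⁻¹ * ι z * v) * t i = t i * (v⁻¹ * ι z * v) := by
    intro i
    obtain ⟨s, hs⟩ := hT _ (ht i).1 (htp i)
    have h2 := congrArg ι (hc s (hQ ⟨t i, (ht i).1, htp i, hs⟩))
    rw [map_mul, map_mul, hs] at h2
    have h3 : t i = v⁻¹ * (v * t i * v⁻¹) * v := by group
    rw [h3]
    calc v⁻¹ * ι z * v * (v⁻¹ * (v * t i * v⁻¹) * v) = v⁻¹ * (ι z * (v * t i * v⁻¹)) * v := by group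
      _ = v⁻¹ * (v * t i * v⁻¹ * ι z) * v := by rw [h2]
      _ = _ := by group
  have h2 := cent_tors hp hk r cs hpp.out hp2 hζ (fun i => (ht i).1) (fun i => (ht i).2) h1
  have h3 := hy _ h2
  rw [isConj_iff]
  refine ⟨y, hι ?_⟩
  rw [map_mul, map_mul, map_inv, map_inv]
  calc ι y * ι z * (ι y)⁻¹ = v * (v⁻¹ * ι y * v * (v⁻¹ * ι z * v) * (v⁻¹ * ι y * v)⁻¹) * v⁻¹ := by group
    _ = v * (v⁻¹ * ι z * v)⁻¹ * v⁻¹ := by rw [h3]
    _ = _ := by group

include r in
/-- representatives in the finite group -/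
theorem exists_rp_range {F : Type u} [Field F] [Fintype F] (f : F →+* k) (w : W) :
    ∃ s : ↥(D.group F), Rp cs (tow hp cs hk r (k := k)).nsys w (emb hp.inList f s) := by
  obtain ⟨ω, rfl⟩ := cs.wordProd_surjective w
  induction ω with
  | nil => exact ⟨1, by rw [wordProd_nil, map_one]; exact rp_one⟩
  | cons i ω ih =>
    obtain ⟨s, hs⟩ := ih
    refine ⟨nc hp F i * s, ?_⟩
    rw [wordProd_cons, map_mul, emb_nc]
    exact (rp_simple cs _ i).mul hs

section Neg

variable {w₀ : W} (hw₀ : ∀ a, IsRoot cs hp.isCartan a → rep cs hp.isCartan w₀ a = -a)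

include hp cs hk r hw₀ in
/-- representatives of `-1` invert the torus -/
theorem inv_of_rp (hZ : center ↥(D.group k) = ⊥) {n : ↥(D.group k)}
    (hn : Rp cs (tow hp cs hk r (k := k)).nsys w₀ n) {t : ↥(D.group k)} (ht : t ∈ TT D k) : n * t * n⁻¹ = t⁻¹ := by
  set H := tow hp cs hk r (k := k) with hH
  have hTL : TL (Tj hp (k := k)) = TT D k := TL_eq hp hk
  have hXL : XL (Xj hp (k := k)) = XX D l k := XL_eq hp hk
  have h1 : n * t * n⁻¹ ∈ TT D k := by
    have := (Subgroup.mem_normalizer_iff.1 hn.mem_normalizer t).1 (by rw [hTL]; exact ht)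
    rwa [hTL] at this
  refine ext_TT hp cs hk r hZ h1 (inv_mem ht) fun a ha => ?_
  have C : Coords cs hp.isCartan (TL (Tj hp (k := k))) (nc hp k) (XL (Xj hp (k := k))) (xc hp) (ch hp) := by
    rw [hTL, hXL]; exact coordsL hp cs hk r
  have h2 := C.chi_rp H.nsys hn ha.neg (t := t) (by rw [hTL]; exact ht)
  rw [hw₀ _ ha.neg, neg_neg] at h2
  rw [h2, ch_neg hp cs hk r ha ht, ch_inv hp cs hk r ha ht]

include hp cs hk r hw₀ in
/-- representatives of `-1` are involutions -/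
theorem sq_eq_one (hZ : center ↥(D.group k) = ⊥) (hnb : ∀ j, ∃ i, cartanOf D l j i = -1) {n : ↥(D.group k)}
    (hn : Rp cs (tow hp cs hk r (k := k)).nsys w₀ n) : n ^ 2 = 1 := by
  have hfin : Finite W := finite_W hp cs
  set H := tow hp cs hk r (k := k) with hH
  have hTL : TL (Tj hp (k := k)) = TT D k := TL_eq hp hk
  have hXL : XL (Xj hp (k := k)) = XX D l k := XL_eq hp hk
  have C : Coords cs hp.isCartan (TL (Tj hp (k := k))) (nc hp k) (XL (Xj hp (k := k))) (xc hp) (ch hp) := by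
    rw [hTL, hXL]; exact coordsL hp cs hk r
  have hsq : n ^ 2 ∈ TT D k := by
    have h1 := hn.mul hn
    have h2 : w₀ * w₀ = 1 := by
      refine rep_faithful hp cs fun a ha => ?_
      rw [rep_mul_apply, hw₀ a ha, hw₀ _ ha.neg, neg_neg, map_one, Module.End.one_apply]
    rw [h2] at h1
    rw [sq, ← hTL]
    exact h1.mem_of_one
  have key : ∀ j a, IsRoot cs hp.isCartan a → ch hp (rep cs hp.isCartan (cs.simple j) a) (n ^ 2) = ch hp a (n ^ 2) := by
    intro j a ha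
    have h1 : Rp cs H.nsys w₀ (nc hp k j * n * (nc hp k j)⁻¹) := by
      have h2 := ((rp_simple cs H.nsys j).mul hn).mul (rp_simple cs H.nsys j).inv
      have h3 : cs.simple j * w₀ * (cs.simple j)⁻¹ = w₀ := by
        refine rep_faithful hp cs fun a ha => ?_
        rw [rep_mul_apply, rep_mul_apply, hw₀ _ (ha.act _), hw₀ _ ha, map_neg, ← rep_mul_apply, mul_inv_cancel, map_one,
          Module.End.one_apply]
      rwa [h3] at h2
    have h2 := hn.unique h1
    rw [hTL] at h2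
    set! s := n⁻¹ * (nc hp k j * n * (nc hp k j)⁻¹) with hs; rewrite [← hs] at h2
    have h3 : nc hp k j * n * (nc hp k j)⁻¹ = n * s := by rw [hs]; group
    have h4 : nc hp k j * n ^ 2 * (nc hp k j)⁻¹ = n ^ 2 := by
      have h5 : nc hp k j * n ^ 2 * (nc hp k j)⁻¹ = (nc hp k j * n * (nc hp k j)⁻¹) ^ 2 := (conj_pow).symm
      have h6 := inv_of_rp hp hk r cs hw₀ hZ hn h2
      rw [h5, h3, sq, sq]
      calc n * s * (n * s) = (n * s * n⁻¹) * (n * n) * s := by group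
        _ = s⁻¹ * (n * n) * s := by rw [h6]
        _ = s⁻¹ * ((n * n) * s) := by group
        _ = s⁻¹ * (s * (n * n)) := by
            rw [TT_comm hp (n * n) (by rw [← sq]; exact hsq) s h2]
        _ = n * n := by group
    have h5 := C.chi_n H.nsys j ha (t := n ^ 2) (by rw [hTL]; exact hsq)
    rwa [h4] at h5
  refine eq_one_TT hp cs hk r hZ hsq fun a ha => ?_
  rw [ch_prod hp hk r cs hsq ha]
  refine Finset.prod_eq_one fun j _ => ?_
  obtain ⟨i, hi⟩ := hnb j
  have h1 := key j (sr i) (isRoot_sr cs hp.isCartan i)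
  have hri := (isRoot_sr cs hp.isCartan i).act (cs.simple j)
  have h2 : rep cs hp.isCartan (cs.simple j) (sr i) = sr i + sr j := by
    rw [rep_simple_eq]
    have : pairing (cartanOf D l) j (sr i) = -1 := by
      unfold pairing
      rw [Finset.sum_eq_single i]
      · rw [sr_self, mul_one, hi]
      · intro b _ hb
        rw [sr_ne hb, mul_zero]
      · intro h; exact absurd (Finset.mem_univ i) h
    rw [this, neg_one_smul, sub_neg_eq_add]
  obtain ⟨φ, -, hφ2, hφ⟩ := chAddL hp cs hk r _ hsq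
  rw [h2] at h1 hri
  rw [hφ _ hri, hφ2, hφ _ (isRoot_sr cs hp.isCartan i)] at h1
  have h3 : φ (sr i) ≠ 0 := by
    rw [← hφ _ (isRoot_sr cs hp.isCartan i)]
    exact ch_ne_zero hp cs hk r (isRoot_sr cs hp.isCartan i) hsq
  have h4 : ch hp (sr j) (n ^ 2) = 1 := by
    rw [hφ _ (isRoot_sr cs hp.isCartan j)]
    exact mul_left_cancel₀ h3 (by rw [h1, mul_one])
  rw [h4, one_zpow]

end Neg

/-- odd order elements with a `d`-th power in a subgroup, `d` prime to the order -/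
theorem mem_of_pow {G : Type*} [Group G] {H : Subgroup G} {x : G} {p d : ℕ} (hx : x ^ p = 1)
    (hpd : Nat.Coprime p d) (h : x ^ d ∈ H) : x ∈ H := by
  have h1 : x ∈ Subgroup.zpowers (x ^ d) := by
    rw [Subgroup.mem_zpowers_iff]
    refine ⟨Nat.gcdB p d, ?_⟩
    have h2 := Nat.gcd_eq_gcd_ab p d
    rw [hpd.gcd_eq_one] at h2
    have h3 : x ^ ((p : ℤ) * Nat.gcdA p d + (d : ℤ) * Nat.gcdB p d) = x := by
      rw [← h2]; simp
    rw [zpow_add, zpow_mul, zpow_natCast, hx, one_zpow, one_mul, zpow_mul, zpow_natCast] at h3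
    exact h3
  exact (Subgroup.zpowers_le.2 h) h1

section Cl

variable {r : ℕ} [Fact r.Prime] {F : Type} [Field F] [Fintype F] [CharP F r]

include hp in
theorem phi_tors {k : Type} [Field k] [IsAlgClosed k] (hk : LocFin k) [CharP k r] {W : Type*} [Group W]
    (cs : CoxeterSystem M W) (hZ : center ↥(D.group k) = ⊥) {n : ℕ} {t : ↥(D.group k)} (ht : t ∈ TT D k) :
    phi D k r n t = t ^ r ^ n := by
  have Fφ := phi_fr hp cs r hk n
  refine ext_TT hp cs hk r hZ ((Fφ.tor t).2 ht) (pow_mem ht _) fun a ha => ?_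
  have h1 := fr_ch hp cs hk (phi_isFrob r n) Fφ ha ht
  rw [ch_pow hp cs hk r ha ht]
  exact h1

include hp in
/-- **`-1 ∈ W` and `p ∣ q - 1`.** -/
theorem rowS_sub {d : ℕ} {B : Fin l → Fin l → ℤ} (hB : InvC D l d B) (hd : d ≠ 0)
    (hZ : center ↥(D.group (AlgebraicClosure (ZMod r))) = ⊥)
    (hneg : ∃ w : M.Group, ∀ a, IsRoot M.toCoxeterSystem hp.isCartan a → rep M.toCoxeterSystem hp.isCartan w a = -a)
    {p : ℕ} [hpp : Fact p.Prime] (hp2 : p ≠ 2) (hpr : p ≠ r) (hpd : Nat.Coprime p d)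
    (hZS : center ↥(D.group F) = ⊥) (hpS : p ∣ Nat.card ↥(D.group F)) (hq1 : p ∣ Fintype.card F - 1) :
    RowS p ↥(D.group F) := by
  obtain ⟨f⟩ := exists_emb r F
  obtain ⟨n, hn0, hn⟩ := exists_card (F := F) r
  have hk : LocFin (AlgebraicClosure (ZMod r)) := locFin_of_isAlgebraic r _
  have hq : Fintype.card F = r ^ n := by rw [← hn, Nat.card_eq_fintype_card]
  obtain ⟨w₀, hw₀⟩ := hneg
  obtain ⟨y, hy⟩ := exists_rp_range hp hk r M.toCoxeterSystem f w₀
  have : NeZero ((p : ℕ) : AlgebraicClosure (ZMod r)) := ⟨fun h0 => by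
    rw [CharP.cast_eq_zero_iff (AlgebraicClosure (ZMod r)) r] at h0
    exact hpr ((Nat.prime_dvd_prime_iff_eq Fact.out hpp.out).1 h0).symm⟩
  obtain ⟨ζ, hζ⟩ := HasEnoughRootsOfUnity.exists_primitiveRoot (AlgebraicClosure (ZMod r)) p
  refine rowS_of_inv hp hk r M.toCoxeterSystem hB hd hp2 hζ hZ hZS hpS (emb hp.inList f) (emb_injective hp.inList f) 1
    (fun t ht htp => ?_) y (fun t ht => ?_)
  · rw [one_mul, inv_one, mul_one]
    have h1 : phi D (AlgebraicClosure (ZMod r)) r n t = t := by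
      rw [phi_tors hp hk M.toCoxeterSystem hZ ht, ← hq]
      obtain ⟨c, hc⟩ := hq1
      have h2 : Fintype.card F = p * c + 1 := by
        have := Fintype.card_pos (α := F)
        omega
      rw [h2, pow_succ, pow_mul, htp, one_pow, one_mul]
    obtain ⟨s, hs⟩ := pow_mem_range hp hk f r M.toCoxeterSystem hB hd hZ hq h1
    exact mem_of_pow htp hpd ⟨s, hs⟩
  · rw [inv_one, one_mul, mul_one]
    exact inv_of_rp hp hk r M.toCoxeterSystem hw₀ hZ hy ht

include hp in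
/-- **`-1 ∈ W` and `p ∣ q + 1`.** -/
theorem rowS_add {d : ℕ} {B : Fin l → Fin l → ℤ} (hB : InvC D l d B) (hd : d ≠ 0)
    (hZ : center ↥(D.group (AlgebraicClosure (ZMod r))) = ⊥)
    (hneg : ∃ w : M.Group, ∀ a, IsRoot M.toCoxeterSystem hp.isCartan a → rep M.toCoxeterSystem hp.isCartan w a = -a)
    (hnb : ∀ j, ∃ i, cartanOf D l j i = -1) (hr2 : r ≠ 2)
    {p : ℕ} [hpp : Fact p.Prime] (hp2 : p ≠ 2) (hpr : p ≠ r) (hpd : Nat.Coprime p d)
    (hZS : center ↥(D.group F) = ⊥) (hpS : p ∣ Nat.card ↥(D.group F)) (hq1 : p ∣ Fintype.card F + 1) :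
    RowS p ↥(D.group F) := by
  set! k := AlgebraicClosure (ZMod r) with hkdef
  obtain ⟨f⟩ := exists_emb r F
  obtain ⟨n, hn0, hn⟩ := exists_card (F := F) r
  have hk : LocFin (AlgebraicClosure (ZMod r)) := locFin_of_isAlgebraic r _
  have hq : Fintype.card F = r ^ n := by rw [← hn, Nat.card_eq_fintype_card]
  obtain ⟨w₀, hw₀⟩ := hneg
  obtain ⟨y, hy⟩ := exists_rp_range hp hk r M.toCoxeterSystem f w₀
  have : NeZero ((p : ℕ) : AlgebraicClosure (ZMod r)) := ⟨fun h0 => by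
    rw [CharP.cast_eq_zero_iff (AlgebraicClosure (ZMod r)) r] at h0
    exact hpr ((Nat.prime_dvd_prime_iff_eq Fact.out hpp.out).1 h0).symm⟩
  obtain ⟨ζ, hζ⟩ := HasEnoughRootsOfUnity.exists_primitiveRoot (AlgebraicClosure (ZMod r)) p
  have hy2 := sq_eq_one hp hk r M.toCoxeterSystem hw₀ hZ hnb hy
  set! n₀ := emb hp.inList f y with hn₀; rewrite [← hn₀] at hy2 hy
  have hσn₀ : phi D (AlgebraicClosure (ZMod r)) r n n₀ = n₀ := phi_emb' hp f r hq y
  obtain ⟨z, hz⟩ := TorAll.exists_toral' hp r Nat.prime_two hr2.symm hy2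
  obtain ⟨z', t', m, g', w, ht', h1, h2, hF, F', htt, -, -⟩ := frame_of_toral hp M.toCoxeterSystem hk hn0
    (phi_isFrob r n) (phi_fr hp M.toCoxeterSystem r hk n) hσn₀ hz
  obtain ⟨u, hu, hu'⟩ := torus_lang hp M.toCoxeterSystem hk hZ hn0 hF F' ht'
  set! v := z' * u * z'⁻¹ with hv
  have hn₀' : n₀ = z' * t' * z'⁻¹ := by rw [← h1]; group
  have hcomm : v * n₀ = n₀ * v := by
    rw [hv, hn₀']
    calc z' * u * z'⁻¹ * (z' * t' * z'⁻¹) = z' * (u * t') * z'⁻¹ := by group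
      _ = z' * (t' * u) * z'⁻¹ := by rw [TT_comm hp u hu t' ht']
      _ = _ := by group
  have hσv : phi D (AlgebraicClosure (ZMod r)) r n v = v * n₀ := by
    have h3 : phi D (AlgebraicClosure (ZMod r)) r n z' = z' * m := by rw [← h2]; group
    have h4 : u * t' = m * phi D (AlgebraicClosure (ZMod r)) r n u * m⁻¹ := by
      rw [hu']
      show u * (u⁻¹ * (m * phi D (AlgebraicClosure (ZMod r)) r n u * m⁻¹)) = _
      group
    rw [hv, map_mul, map_mul, map_inv, h3, hn₀']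
    calc z' * m * phi D (AlgebraicClosure (ZMod r)) r n u * (z' * m)⁻¹
        = z' * (m * phi D (AlgebraicClosure (ZMod r)) r n u * m⁻¹) * z'⁻¹ := by group
      _ = z' * (u * t') * z'⁻¹ := by rw [h4]
      _ = _ := by group
  refine rowS_of_inv hp hk r M.toCoxeterSystem hB hd hp2 hζ hZ hZS hpS (emb hp.inList f) (emb_injective hp.inList f) v
    (fun t ht htp => ?_) y (fun t ht => ?_)
  · have h3 : phi D (AlgebraicClosure (ZMod r)) r n (v * t * v⁻¹) = v * t * v⁻¹ := by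
      have h4 : phi D (AlgebraicClosure (ZMod r)) r n t = t⁻¹ := by
        rw [phi_tors hp hk M.toCoxeterSystem hZ ht, ← hq]
        obtain ⟨c, hc⟩ := hq1
        rw [eq_inv_iff_mul_eq_one, ← pow_succ, hc, pow_mul, htp, one_pow]
      rw [map_mul, map_mul, map_inv, hσv, h4]
      have h5 := inv_of_rp hp hk r M.toCoxeterSystem hw₀ hZ hy (inv_mem ht)
      rw [inv_inv] at h5
      calc v * n₀ * t⁻¹ * (v * n₀)⁻¹ = v * (n₀ * t⁻¹ * n₀⁻¹) * v⁻¹ := by group
        _ = _ := by rw [h5]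
    obtain ⟨s, hs⟩ := pow_mem_range hp hk f r M.toCoxeterSystem hB hd hZ hq h3
    refine mem_of_pow ?_ hpd ⟨s, hs⟩
    rw [conj_pow, htp]; group
  · have h3 : v⁻¹ * n₀ * v = n₀ := by rw [mul_assoc, ← hcomm]; group
    rw [h3]
    exact inv_of_rp hp hk r M.toCoxeterSystem hw₀ hZ hy ht

include hp in
/-- fixed elements have a power prime to `r` in the finite group -/
theorem pow_mem_range' {k : Type} [Field k] [IsAlgClosed k] [CharP k r] (f : F →+* k)
    {n : ℕ} (hn : Fintype.card F = r ^ n) [Finite ↥(fixedSubgroup (phi D k r n))] {y : ↥(D.group k)}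
    (hy : phi D k r n y = y) : ∃ m : ℕ, m.Coprime r ∧ y ^ m ∈ (emb hp.inList f).range := by
  have hy' : glMap D (frh k r n) (y : GL D.Idx k) = y := by rw [← phi_glMap r n y, hy]
  obtain ⟨a, ha, t, ht, e⟩ := EmbSplit.untw_split hp.inList (Emb.fix_iff_range (f := f) (frh_apply r hn)) y.2 hy'
  have hta : t ∈ D.group k := by
    have h1 : t = ((emb hp.inList f ⟨a, ha⟩ : ↥(D.group k)) : GL D.Idx k)⁻¹ * y := by
      rw [coe_emb]
      exact eq_inv_mul_of_mul_eq e.symm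
    rw [h1]
    exact mul_mem (inv_mem (SetLike.coe_mem _)) y.2
  have e' : y = emb hp.inList f ⟨a, ha⟩ * ⟨t, hta⟩ := Subtype.ext e
  have hσt : phi D k r n ⟨t, hta⟩ = ⟨t, hta⟩ := by
    have h1 := hy
    rw [e', map_mul, phi_emb' hp f r hn] at h1
    exact mul_left_cancel h1
  have hft : IsOfFinOrder (⟨t, hta⟩ : ↥(D.group k)) := by
    have h1 : IsOfFinOrder (⟨⟨t, hta⟩, hσt⟩ : ↥(fixedSubgroup (phi D k r n))) := (isOfFinOrder_of_finite _ : _)
    exact ((fixedSubgroup (phi D k r n)).subtype.isOfFinOrder h1 :)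
  obtain ⟨m, hm, hm1⟩ := RowsN.exists_coprime hp.inList (Subgroup.mem_subgroupOf.2 ht) hft
  refine ⟨m, hm, ?_⟩
  rw [e']
  refine pow_mem_of (N := (emb hp.inList f).range) ⟨_, rfl⟩ (fun b hb => ?_) (by rw [hm1]; exact one_mem _)
  exact Emb.conj_mem_range hp.inList (f := f) (frh_apply r hn) (phi_glMap r n) hσt hb

end Cl

section Even

include hp in
/-- `-1 ∈ W`, characteristic two: elements of odd prime order are real. -/
theorem isConj_inv_two [Fact (Nat.Prime 2)] {F : Type} [Field F] [Fintype F] [CharP F 2]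
    (hZ : center ↥(D.group (AlgebraicClosure (ZMod 2))) = ⊥)
    (hneg : ∃ w : M.Group, ∀ a, IsRoot M.toCoxeterSystem hp.isCartan a → rep M.toCoxeterSystem hp.isCartan w a = -a)
    {p : ℕ} (hpp : p.Prime) (hp2 : p ≠ 2) {z : ↥(D.group F)} (hz : z ^ p = 1) : IsConj z z⁻¹ := by
  obtain ⟨f⟩ := exists_emb 2 F
  obtain ⟨n, hn0, hn⟩ := exists_card (F := F) 2
  have hk : LocFin (AlgebraicClosure (ZMod 2)) := locFin_of_isAlgebraic 2 _
  have hfin := finite_phi (D := D) (k := AlgebraicClosure (ZMod 2)) (r := 2) hn0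
  have hq : Fintype.card F = 2 ^ n := by rw [← hn, Nat.card_eq_fintype_card]
  obtain ⟨w, hw⟩ := TorAll.exists_toral' hp 2 hpp hp2 (y := emb hp.inList f z) (by rw [← map_pow, hz, map_one])
  obtain ⟨y, h1, h2⟩ := real_of_neg hp M.toCoxeterSystem hk hZ hn0 (phi_isFrob 2 n)
      (phi_fr hp M.toCoxeterSystem 2 hk n) (phi_emb' hp f 2 hq z) hw hneg
  obtain ⟨m, hm, s, hs⟩ := pow_mem_range' hp f hq h1
  have h2' : y⁻¹ * emb hp.inList f z * y = emb hp.inList f z ^ (-1 : ℤ) := by rw [zpow_neg_one]; exact h2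
  have h3 := conj_iter h2' m
  have hm' : Odd m := by
    rw [← Nat.not_even_iff_odd, even_iff_two_dvd]
    intro hd
    have := Nat.dvd_gcd hd (dvd_refl 2)
    rw [hm.gcd_eq_one] at this
    omega
  rw [hm'.neg_one_pow, zpow_neg_one, ← hs, ← map_inv, ← map_mul, ← map_mul, ← map_inv] at h3
  have h4 := emb_injective hp.inList f h3
  rw [isConj_iff]
  exact ⟨s⁻¹, by rw [inv_inv]; exact h4⟩

end Even

section Rows

variable {p : ℕ} [hpp : Fact p.Prime] (hp2 : p ≠ 2) {r : ℕ} [hr : Fact r.Prime] (hpr : p ≠ r) (F : Type) [Field F]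
  [Fintype F] [CharP F r]

include hp2 hpr in
theorem rowS_e7 (hd : p ∣ Nat.card ↥(chevE7.group F)) : RowS p ↥(chevE7.group F) := by
  have hZS := center_eq_bot_of_simple (S1054.result (F := F) chevE7 (by simp))
  have hZ := center_eq_bot_of_simple (S1054.result (F := AlgebraicClosure (ZMod r)) chevE7 (by simp))
  by_cases hr2 : r = 2
  · subst hr2
    exact RowS.of_real hp2 hZS hd fun _ _ hz => isConj_inv_two e7T hZ (GmnNeg.negE7 e7T _) hpp.out hp2 hz
  have hcop : Nat.Coprime p 2 := (Nat.coprime_primes hpp.out Nat.prime_two).2 hp2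
  by_cases h1 : p ∣ Fintype.card F - 1
  · exact rowS_sub e7T inv_E7 two_ne_zero hZ (GmnNeg.negE7 e7T _) hp2 hpr hcop hZS hd h1
  by_cases h2 : p ∣ Fintype.card F + 1
  · exact rowS_add e7T inv_E7 two_ne_zero hZ (GmnNeg.negE7 e7T _) (by rw [GmnNeg.cartanE7]; decide) hr2 hp2 hpr hcop
      hZS hd h2
  refine RowS.of_powConj hZS hd fun z _ hz => ⟨Fintype.card F ^ 2, ?_,
    isConj_pow e7T inv_E7 two_ne_zero hZ hpp.out hpr hz⟩
  intro h3
  have hq : 1 ≤ Fintype.card F := Fintype.card_pos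
  have h4 : p ∣ Fintype.card F ^ 2 - 1 := (Nat.modEq_iff_dvd' (Nat.one_le_pow _ _ hq)).1 h3.symm
  have h5 : Fintype.card F ^ 2 - 1 = (Fintype.card F + 1) * (Fintype.card F - 1) := by
    have := Nat.sq_sub_sq (Fintype.card F) 1
    rwa [one_pow] at this
  rw [h5] at h4
  rcases (Nat.Prime.dvd_mul hpp.out).1 h4 with h6 | h6
  · exact h2 h6
  · exact h1 h6

end Rows

end Cfsg.Agent.H696.GmnInv
end

-- part: H696/GmnTorSetup
section
set_option linter.all false

/-!
# Finite groups containing (part of) the `p`-torsion of a torus and lifts of its Weyl group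

The common setup of `E₆(q)`, `p ∣ q - 1`, and `²E₆(q)`, `p ∣ q + 1`.
-/

set_option autoImplicit false

namespace Cfsg.Agent.H696.GmnTorSetup

open CoxeterSystem Subgroup Cfsg Cfsg.Lie Cfsg.Lie.ChevalleyDatum
open Cfsg.Agent.ChevalleyStructure Cfsg.Agent.ChevalleyStructure.Elts Cfsg.Agent.ChevalleyStructure.CoxeterGeom
  Cfsg.Agent.ChevalleyStructure.CoxeterGeomTypes Cfsg.Agent.ChevalleyStructure.NPerm
open Cfsg.Agent.Tits.Roots Cfsg.Agent.Tits.Core Cfsg.Agent.Nodes Cfsg.Agent.Nodes.Reps Cfsg.Agent.Nodes.BNOf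
  Cfsg.Agent.Nodes.RGDChev Cfsg.Agent.Nodes.Bruhat
open Cfsg.Agent.KFacts.RgdField Cfsg.Agent.KFacts.RgdChevCoord
open Cfsg.Agent.BpExc Cfsg.Agent.BpExc.TorCent Cfsg.Agent.BpExc.TorChev Cfsg.Agent.BpExc.Tow
open Cfsg.Agent.BpExc.TowChev

universe u v

variable {D : ChevalleyDatum} {l : ℕ} {M : CoxeterMatrix (Fin l)} (hp : IsType D l M) {k : Type u} [Field k]
  (hk : LocFin k) (r : ℕ) [Fact r.Prime] [CharP k r] {W : Type v} [Group W] (cs : CoxeterSystem M W)

/-- `S` (via `ι`) contains lifts of the whole Weyl group of the torus `v T v⁻¹` and all coroot elements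
`v h_j(c) v⁻¹` with `c ^ p = 1`. -/
structure TorSetup (p : ℕ) {S : Type*} [Group S] (ι : S →* ↥(D.group k)) (v : ↥(D.group k)) : Prop where
  inj : Function.Injective ι
  lift : ∀ w : W, ∃ s : S, Rp cs (tow hp cs hk r (k := k)).nsys w (v⁻¹ * ι s * v)
  tors : ∀ (j : Fin l) (c : k), c ^ p = 1 → v * hc hp j c * v⁻¹ ∈ ι.range

end Cfsg.Agent.H696.GmnTorSetup
end

-- part: H696/GmnThree
section
prune_inst 0x4c0000000410000000000000200001d0284000002006b08000020000000082f20200327200c0001101800a0100000000000000040000000000000000000000100000006008148a108a00000001004000000000000000000000000000000000000000000000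
set_option linter.all false
open scoped Cfsg.Agent.FastGrp

/-!
# `E₆` type, `p = 3`: the elements of order three of the centre of a Sylow subgroup are real

* `cent_hc` : the centraliser of the coroot elements `h_j(c)`, `c ^ p = 1`, is the torus (roots distinct modulo `p`
  on the coroots);
* `exists_pgroup` : a `p`-subgroup lifting a `p`-subgroup of `W`;
* `rowS_three` : the row.
-/

set_option autoImplicit false
set_option linter.unusedSectionVars false

namespace Cfsg.Agent.H696.GmnThree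

open CoxeterSystem Subgroup Cfsg Cfsg.Lie Cfsg.Lie.ChevalleyDatum
open Cfsg.Agent.ChevalleyStructure Cfsg.Agent.ChevalleyStructure.Elts Cfsg.Agent.ChevalleyStructure.CoxeterGeom
  Cfsg.Agent.ChevalleyStructure.CoxeterGeomTypes Cfsg.Agent.ChevalleyStructure.NPerm
open Cfsg.Agent.Tits.Roots Cfsg.Agent.Tits.Core Cfsg.Agent.Nodes Cfsg.Agent.Nodes.Reps Cfsg.Agent.Nodes.BNOf
  Cfsg.Agent.Nodes.RGDChev Cfsg.Agent.Nodes.Bruhat Cfsg.Agent.Nodes.NormalForm
open Cfsg.Agent.KFacts.RgdField Cfsg.Agent.KFacts.RgdChevCoord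
open Cfsg.Agent.GpExc.Field (glMap emb coe_emb glMap_xG emb_injective coe_glMap)
open Cfsg.Agent.BpExc Cfsg.Agent.BpExc.TorCent Cfsg.Agent.BpExc.TorChev Cfsg.Agent.BpExc.Tow
open Cfsg.Agent.BpExc.TowChev Cfsg.Agent.BpExc.Fr Cfsg.Agent.BpExc.LangFr
open Cfsg.Agent.BpExc.FamUntw Cfsg.Agent.BpExc.FamInst Cfsg.Agent.BpExc.FamExt Cfsg.Agent.BpExc.FamField
open Cfsg.Agent.BpExc.RowsUntw
open Cfsg.Agent.H696.GmnToral Cfsg.Agent.H696.GmnUntw Cfsg.Agent.H696.GmnTor Cfsg.Agent.H696.GmnInv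
  Cfsg.Agent.H696.GmnNeg Cfsg.Agent.H696.GmnTorSetup Cfsg.Agent.H712.Gmn
open Cfsg.Agent.H129.TorusChar (cX IsMC cX_root isMC_cX)

universe u v

variable {D : ChevalleyDatum} {l : ℕ} {M : CoxeterMatrix (Fin l)} (hp : IsType D l M) {k : Type u} [Field k]
  [IsAlgClosed k] (hk : LocFin k) (r : ℕ) [Fact r.Prime] [CharP k r] {W : Type v} [Group W] (cs : CoxeterSystem M W)

/-- the roots are distinct modulo `p` on the coroots -/
def DistMod (cs : CoxeterSystem M W) (p : ℕ) : Prop :=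
  ∀ a b, IsRoot cs hp.isCartan a → IsRoot cs hp.isCartan b →
    (∀ j, (p : ℤ) ∣ pairing (cartanOf D l) j a - pairing (cartanOf D l) j b) → a = b

include hp cs hk r in
/-- characters of coroot elements -/
theorem ch_hc' {c : k} (hc0 : c ≠ 0) (j : Fin l) {a : Fin l → ℤ} (ha : IsRoot cs hp.isCartan a) :
    ch hp a (hc hp j c) = c ^ pairing (cartanOf D l) j a := by
  obtain ⟨s, hs, rfl⟩ := (isRoot_iff hp cs a).1 ha
  rw [ch_hc hp j hc0 hs, ← pairing_vec hp j hs]

include hp cs hk r in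
/-- **The centraliser of the coroot elements of order `p`.** -/
theorem cent_hc [Finite W] {p : ℕ} (hpp : p.Prime) {ζ : k} (hζ : IsPrimitiveRoot ζ p) (hdm : DistMod hp cs p)
    {g : ↥(D.group k)} (hg : ∀ j, g * hc hp j ζ = hc hp j ζ * g) : g ∈ TT D k := by
  classical
  set H := tow hp cs hk r (k := k) with hH
  have hTL : TL (Tj hp (k := k)) = TT D k := TL_eq hp hk
  have hXL : XL (Xj hp (k := k)) = XX D l k := XL_eq hp hk
  have hζ0 : ζ ≠ 0 := hζ.ne_zero hpp.pos.ne'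
  have ht : ∀ j : Fin l, hc hp j ζ ∈ TT D k := fun j => hc_mem hp j hζ0
  obtain ⟨j1, hj1⟩ := H.exists_level (S := fun j => (Tj hp (k := k) j : Set ↥(D.group k)))
    (fun _ _ h x hx => H.monoT h hx) (f := fun j : Fin l => hc hp j ζ) (fun i => by
      have := ht i
      rw [← hTL, H.mem_TL] at this
      exact this)
  have hgG : g ∈ GG cs hp.isCartan (TL (Tj hp (k := k))) (XL (Xj hp)) := by
    rw [GG_eq_top hp cs hk]; trivial
  obtain ⟨j2, hj2⟩ := H.mem_GG.1 hgG
  obtain ⟨j, h1j, h2j⟩ := H.dir j1 j2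
  have hS : Set.range (fun j : Fin l => hc hp j ζ) ⊆ (Tj hp (k := k) j : Set ↥(D.group k)) := by
    rintro _ ⟨i, rfl⟩
    exact H.monoT h1j (hj1 i)
  obtain ⟨u, hu, w, y, hy, hyc, v, hv, e⟩ := mem_centralizer (H.rgd j) hS (H.mono_GG h2j hj2)
    (Subgroup.mem_centralizer_iff.2 (by rintro _ ⟨i, rfl⟩; exact (hg i).symm))
  have hζ1 : ∀ n : ℤ, ζ ^ n = 1 → (p : ℤ) ∣ n := fun n hn => (hζ.zpow_eq_one_iff_dvd n).1 hn
  have C := coordsL hp cs hk r (k := k)
  have hroot : ∀ a, IsRoot cs hp.isCartan a → ∃ j, ¬ (p : ℤ) ∣ pairing (cartanOf D l) j a := by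
    intro a ha
    by_contra hcon
    push Not at hcon
    have h1 := hdm a (-a) ha ha.neg (fun j => by
      have h2 : pairing (cartanOf D l) j (-a) = - pairing (cartanOf D l) j a := by
        have := pairing_add (cartanOf D l) j a (-a)
        have h0 : pairing (cartanOf D l) j (0 : Fin l → ℤ) = 0 := by simp [pairing]
        rw [add_neg_cancel, h0] at this
        linarith
      rw [h2, sub_neg_eq_add]
      exact dvd_add (hcon j) (hcon j))
    have h2 : a = 0 := by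
      funext i
      have := congrFun h1 i
      rw [Pi.neg_apply] at this
      rw [Pi.zero_apply]
      omega
    obtain ⟨w, i, rfl⟩ := ha
    have h3 : (sr i : Fin l → ℤ) = 0 := by
      have h4 : rep cs hp.isCartan w⁻¹ (rep cs hp.isCartan w (sr i)) = 0 := by rw [h2, map_zero]
      rwa [← rep_mul_apply, inv_mul_cancel, map_one, Module.End.one_apply] at h4
    have h4 := congrFun h3 i
    rw [sr_self] at h4
    exact absurd h4 one_ne_zero
  have hbot : ∀ x ∈ RGD.Pos cs hp.isCartan,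
      Xj hp j x ⊓ Subgroup.centralizer (Set.range (fun j : Fin l => hc hp j ζ)) = ⊥ := by
    intro x hx
    rw [eq_bot_iff]
    rintro u ⟨hu, hcu⟩
    by_contra hu1
    obtain ⟨i, hi⟩ := hroot x hx.1
    have h1 : u ∈ XX D l k x := by rw [← hXL]; exact le_XL j x hu
    have h2 := mem_Sx_of_centralizer C (ht i) hx.1 h1 (by simpa using hu1)
      (Subgroup.mem_centralizer_singleton_iff.2 (Subgroup.mem_centralizer_iff.1 hcu _ ⟨i, rfl⟩).symm)
    have h3 : ch hp x (hc hp i ζ) = 1 := h2.2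
    rw [ch_hc' hp hk r cs hζ0 i hx.1] at h3
    exact hi (hζ1 _ h3)
  have hsup : ∀ u ∈ RGD.Sup (fun x => Xj hp j x ⊓ Subgroup.centralizer (Set.range (fun j : Fin l => hc hp j ζ)))
      (RGD.Pos cs hp.isCartan), u = 1 := by
    intro u hu
    have h1 : RGD.Sup (fun x => Xj hp j x ⊓ Subgroup.centralizer (Set.range (fun j : Fin l => hc hp j ζ)))
      (RGD.Pos cs hp.isCartan) ≤ ⊥ := RGD.Sup_le fun x hx => (hbot x hx).le
    exact Subgroup.mem_bot.1 (h1 hu)
  rw [hsup u hu, hsup v hv, one_mul, mul_one] at e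
  have hyw : Rp cs H.nsys w y := H.rp_up hy
  have hw1 : w = 1 := by
    refine rep_faithful hp cs fun a ha => ?_
    rw [map_one, Module.End.one_apply]
    refine hdm _ _ (ha.act w) ha fun i => ?_
    have C' : Coords cs hp.isCartan (TL (Tj hp (k := k))) (nc hp k) (XL (Xj hp (k := k))) (xc hp) (ch hp) := by
      rw [hTL, hXL]; exact coordsL hp cs hk r
    have h2 := C'.chi_rp H.nsys hyw ha (t := hc hp i ζ) (by rw [hTL]; exact ht i)
    have h3 : y * hc hp i ζ * y⁻¹ = hc hp i ζ := by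
      rw [← e, hg i]; group
    rw [h3, ch_hc' hp hk r cs hζ0 i (ha.act w), ch_hc' hp hk r cs hζ0 i ha] at h2
    apply hζ1
    rw [zpow_sub₀ hζ0, h2, div_self (zpow_ne_zero _ hζ0)]
  rw [e, ← hTL]
  rw [hw1] at hyw
  exact hyw.mem_of_one

/-! ### lifting `p`-subgroups of `W` -/

section Lift

variable {p : ℕ} [hpp : Fact p.Prime] {S : Type*} [Group S] [Finite S] {ι : S →* ↥(D.group k)} {v : ↥(D.group k)}

include hp cs hk r in
/-- A `p`-subgroup of `S` lifting a given `p`-subgroup of `W` and containing the `p`-torsion of `S ∩ v T v⁻¹`. -/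
theorem exists_pgroup [Finite W] (H : TorSetup hp hk r cs p ι v) {P : Subgroup W} (hP : IsPGroup p P) :
    ∃ X : Subgroup S, IsPGroup p X ∧ (∀ s : S, v⁻¹ * ι s * v ∈ TT D k → s ^ p = 1 → s ∈ X) ∧
      ∀ w ∈ P, ∃ s ∈ X, Rp cs (tow hp cs hk r (k := k)).nsys w (v⁻¹ * ι s * v) := by
  classical
  have hTL : TL (Tj hp (k := k)) = TT D k := TL_eq hp hk
  have hmul : ∀ a b : S, v⁻¹ * ι (a * b) * v = (v⁻¹ * ι a * v) * (v⁻¹ * ι b * v) := fun a b => by
    rw [map_mul]; group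
  let L : Subgroup (S × W) :=
    { carrier := {x | x.2 ∈ P ∧ Rp cs (tow hp cs hk r (k := k)).nsys x.2 (v⁻¹ * ι x.1 * v)}
      one_mem' := ⟨one_mem _, by
        show Rp cs (tow hp cs hk r (k := k)).nsys 1 (v⁻¹ * ι 1 * v)
        rw [map_one, mul_one, inv_mul_cancel]; exact rp_one⟩
      mul_mem' := by
        rintro ⟨a, w⟩ ⟨b, w'⟩ ⟨h1, h2⟩ ⟨h3, h4⟩
        refine ⟨mul_mem h1 h3, ?_⟩
        show Rp cs (tow hp cs hk r (k := k)).nsys (w * w') (v⁻¹ * ι (a * b) * v)
        rw [hmul]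
        exact h2.mul h4
      inv_mem' := by
        rintro ⟨a, w⟩ ⟨h1, h2⟩
        refine ⟨inv_mem h1, ?_⟩
        show Rp cs (tow hp cs hk r (k := k)).nsys w⁻¹ (v⁻¹ * ι a⁻¹ * v)
        have e : v⁻¹ * ι a⁻¹ * v = (v⁻¹ * ι a * v)⁻¹ := by rw [map_inv]; group
        rw [e]
        exact h2.inv }
  let π : ↥L →* ↥P :=
    { toFun := fun x => ⟨x.1.2, x.2.1⟩
      map_one' := rfl
      map_mul' := fun _ _ => rfl }
  have hπ : Function.Surjective π := by
    rintro ⟨w, hw⟩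
    obtain ⟨s, hs⟩ := H.lift w
    exact ⟨⟨(s, w), hw, hs⟩, rfl⟩
  let E : Subgroup ↥L :=
    { carrier := {x | x.1.2 = 1 ∧ x.1.1 ^ p = 1}
      one_mem' := ⟨rfl, one_pow p⟩
      mul_mem' := by
        rintro ⟨⟨a, w⟩, ha⟩ ⟨⟨b, w'⟩, hb⟩ ⟨h1, h2⟩ ⟨h3, h4⟩
        have h1' : w = 1 := h1
        have h3' : w' = 1 := h3
        subst h1' h3'
        refine ⟨mul_one 1, ?_⟩
        show (a * b) ^ p = 1
        have h5 : v⁻¹ * ι a * v ∈ TT D k := by rw [← hTL]; exact ha.2.mem_of_one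
        have h6 : v⁻¹ * ι b * v ∈ TT D k := by rw [← hTL]; exact hb.2.mem_of_one
        have h7 : Commute a b := by
          apply H.inj
          have h8 := TT_comm hp _ h5 _ h6
          rw [← hmul, ← hmul] at h8
          exact mul_left_cancel (mul_right_cancel h8)
        rw [h7.mul_pow]
        have h2' : a ^ p = 1 := h2
        have h4' : b ^ p = 1 := h4
        rw [h2', h4', one_mul]
      inv_mem' := by
        rintro ⟨⟨a, w⟩, ha⟩ ⟨h1, h2⟩
        have h1' : w = 1 := h1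
        subst h1'
        refine ⟨inv_one, ?_⟩
        show (a⁻¹) ^ p = 1
        have h2' : a ^ p = 1 := h2
        rw [inv_pow, h2', inv_one] }
  have hE : IsPGroup p E := by
    rintro ⟨⟨⟨a, w⟩, ha⟩, h1, h2⟩
    have h1' : w = 1 := h1
    subst h1'
    refine ⟨1, Subtype.ext (Subtype.ext ?_)⟩
    show ((a, 1) : S × W) ^ p ^ 1 = (1, 1)
    rw [pow_one, Prod.pow_mk, one_pow]
    have h2' : a ^ p = 1 := h2
    rw [h2']
  obtain ⟨X, hX⟩ := hE.exists_le_sylow
  have htop : ∀ y : ↥P, y ∈ (X.mapSurjective hπ : Subgroup ↥P) := by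
    intro y
    have h1 : (X.mapSurjective hπ : Subgroup ↥P) = ⊤ :=
      ((X.mapSurjective hπ).is_maximal' (hP.to_subgroup ⊤) le_top).symm
    rw [h1]; trivial
  refine ⟨X.1.map ((MonoidHom.fst S W).comp L.subtype), X.2.map _, fun s hs hsp => ?_, fun w hw => ?_⟩
  · exact ⟨⟨(s, 1), one_mem _, rp_of_mem (by rw [hTL]; exact hs)⟩, hX ⟨rfl, hsp⟩, rfl⟩
  · obtain ⟨x, hx, hxy⟩ := htop ⟨w, hw⟩
    refine ⟨x.1.1, ⟨x, hx, rfl⟩, ?_⟩
    have h1 : x.1.2 = w := congrArg Subtype.val hxy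
    rw [← h1]
    exact x.2.2

end Lift

/-! ### the tables of `E₆` -/

def AE6 : Fin 6 → Fin 6 → ℤ :=
  ![![2, 0, -1, 0, 0, 0], ![0, 2, 0, -1, 0, 0], ![-1, 0, 2, -1, 0, 0], ![0, -1, -1, 2, -1, 0], ![0, 0, 0, -1, 2, -1],
    ![0, 0, 0, 0, -1, 2]]

theorem cartanE6 : cartanOf chevE6 6 = AE6 := by decide +kernel

def TC : Fin 6 → Fin 6 → ℤ :=
  ![![0, 0, 1, 0, 0, 0], ![0, 1, 0, 0, 0, 0], ![-1, 0, -1, 0, 0, 0], ![1, 0, 1, 1, 0, 0], ![0, 0, 0, 0, 1, 0],
    ![0, 0, 0, 0, 0, 1]]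
def TD : Fin 6 → Fin 6 → ℤ :=
  ![![1, 0, 0, 0, 0, 0], ![0, 1, 0, 0, 0, 0], ![0, 0, 1, 0, 0, 0], ![0, 0, 0, 1, 1, 1], ![0, 0, 0, 0, -1, -1],
    ![0, 0, 0, 0, 1, 0]]
def TG : Fin 6 → Fin 6 → ℤ :=
  ![![0, 0, 0, 0, 0, 1], ![1, 0, 0, 0, 0, 0], ![0, 0, 0, 0, 1, 0], ![-1, -1, -1, -2, -2, -1], ![1, 1, 2, 3, 2, 1],
    ![0, 1, 0, 0, 0, 0]]
def TS : Fin 6 → Fin 6 → ℤ :=
  ![![0, 0, 0, 0, 1, 0], ![1, 1, 2, 3, 2, 1], ![0, 0, 0, 0, 0, 1], ![-1, 0, -1, -1, -1, -1], ![1, 0, 0, 0, 0, 0],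
    ![0, 0, 1, 0, 0, 0]]
def idT (l : ℕ) : Fin l → Fin l → ℤ := fun i m => if i = m then 1 else 0

theorem wordC (i m : Fin 6) : word AE6 [0, 2] (Pi.single i 1) m = TC i m := by
  revert i m
  decide +kernel
theorem wordD (i m : Fin 6) : word AE6 [5, 4] (Pi.single i 1) m = TD i m := by
  revert i m
  decide +kernel
theorem wordG (i m : Fin 6) : word AE6 [3, 1, 4, 3, 2, 0, 5, 4, 3, 1, 2, 3] (Pi.single i 1) m = TG i m := by
  revert i m
  decide +kernel
theorem wordS (i m : Fin 6) : word AE6 [3, 2, 0, 4, 3, 2, 5, 4, 3] (Pi.single i 1) m = TS i m := by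
  revert i m
  decide +kernel

theorem TC3 : mulT TC (mulT TC TC) = idT 6 := by decide +kernel
theorem TG3 : mulT TG (mulT TG TG) = idT 6 := by decide +kernel
theorem TGC : mulT TC TG = mulT TG TD := by decide +kernel
theorem TCD : mulT TD TC = mulT TC TD := by decide +kernel
theorem TS2 : mulT TS TS = idT 6 := by decide +kernel

private noncomputable def _root_.Cfsg.Agent.LsF.fea68f5_0 : {f // @Cfsg.Agent.H696.GmnThree.AE6 = f} := ⟨_, by first | (delta Cfsg.Agent.H696.GmnThree.AE6; rewrite [Cfsg.Agent.LsF.ineg_pat, Cfsg.Agent.LsF.vecCons_eq]; exact rfl) | exact rfl⟩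
private noncomputable def _root_.Cfsg.Agent.LsF.fea68f5_1 : {f // @Cfsg.Agent.ChevalleyStructure.RootVecTab.dig = f} := ⟨_, by first | (delta Cfsg.Agent.ChevalleyStructure.RootVecTab.dig; rewrite [Cfsg.Agent.LsF.nmul_pat]; exact rfl) | exact rfl⟩
private noncomputable def _root_.Cfsg.Agent.LsF.fea68f5_2 : {f // @Cfsg.Agent.ChevalleyStructure.RootVecTab.packTab = f} := ⟨_, by first | (delta Cfsg.Agent.ChevalleyStructure.RootVecTab.packTab; rewrite [Cfsg.Agent.LsF.instDecEq_eq, Cfsg.Agent.LsF.ite_eq]; exact rfl) | exact rfl⟩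
private noncomputable def _root_.Cfsg.Agent.LsF.fea68f5_3 : {f // @Cfsg.Agent.ChevalleyStructure.RootVecTab.code = f} := ⟨_, by first | (delta Cfsg.Agent.ChevalleyStructure.RootVecTab.code; rewrite [Cfsg.Agent.LsF.fea68f5_2.2, Cfsg.Agent.LsF.nmul_pat, Cfsg.Agent.LsF.npow_pat]; exact rfl) | exact rfl⟩
private noncomputable def _root_.Cfsg.Agent.LsF.fea68f5_4 : {f // @Cfsg.Agent.ChevalleyStructure.RootVec.rt = f} := ⟨_, by first | (delta Cfsg.Agent.ChevalleyStructure.RootVec.rt; rewrite [Cfsg.Agent.LsF.fea68f5_1.2, Cfsg.Agent.LsF.fea68f5_3.2, Cfsg.Agent.LsF.nsub_pat, Cfsg.Agent.LsF.isub_pat, Cfsg.Agent.LsF.icast_pat, Cfsg.Agent.LsF.decLt_eq, Cfsg.Agent.LsF.dAnd_eq, Cfsg.Agent.LsF.ite_eq]; exact rfl) | exact rfl⟩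
private noncomputable def _root_.Cfsg.Agent.LsF.fea68f5_5 : {f // @Cfsg.Agent.Nodes.RGDChev.vec = f} := ⟨_, by first | (delta Cfsg.Agent.Nodes.RGDChev.vec; rewrite [Cfsg.Agent.LsF.fea68f5_4.2]; exact rfl) | exact rfl⟩
theorem dist_table : ∀ r s : Fin 72, (∀ j : Fin 6, (3 : ℤ) ∣ pairing AE6 j (vec chevE6 6 r) - pairing AE6 j (vec chevE6 6 s)) →
    r = s := by
  (refine of_decide_eq_true ?_; (try (delta Cfsg.Agent.ChevalleyStructure.CoxeterGeom.pairing; rewrite [Cfsg.Agent.LsF.sumF_pat, Cfsg.Agent.LsF.fea68f5_0.2, Cfsg.Agent.LsF.fea68f5_5.2, Cfsg.Agent.LsF.iadd_pat, Cfsg.Agent.LsF.imul_pat, Cfsg.Agent.LsF.isub_pat, Cfsg.Agent.LsF.iACM_eq, Cfsg.Agent.LsF.dFinEq_eq, Cfsg.Agent.LsF.dForallFin_eq, Cfsg.Agent.LsF.dAllP_eq, Cfsg.Agent.LsF.idDvd_eq, Cfsg.Agent.LsF.decide_eq])); decide +kernel)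

theorem nroots_E6 : chevE6.nroots = 72 := by decide +kernel

section Main

theorem tab_id {l : ℕ} {W : Type*} [Group W] {M : CoxeterMatrix (Fin l)} (cs : CoxeterSystem M W)
    {A : Fin l → Fin l → ℤ} (h : IsCartan M A) : Tab cs h (1 : W) (idT l) := by
  intro i
  rw [map_one, Module.End.one_apply]
  funext m
  unfold idT
  by_cases e : i = m
  · subst e; rw [sr_self, if_pos rfl]
  · rw [sr_ne (Ne.symm e), if_neg e]

theorem tab_unique {D : ChevalleyDatum} {l : ℕ} {M : CoxeterMatrix (Fin l)} (hp : IsType D l M) {W : Type*} [Group W]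
    [Finite W] (cs : CoxeterSystem M W) {w w' : W} {P : Fin l → Fin l → ℤ} (h1 : Tab cs hp.isCartan w P)
    (h2 : Tab cs hp.isCartan w' P) : w = w' :=
  rep_faithful hp cs fun a _ => by rw [h1.apply, h2.apply]

theorem le_normalizer_of_comm {G : Type*} [Group G] {H K : Subgroup G} (h : ∀ a ∈ H, ∀ b ∈ K, a * b = b * a) :
    H ≤ normalizer (K : Set G) := by
  intro a ha
  rw [Subgroup.mem_normalizer_iff]
  intro b
  constructor
  · intro hb
    rw [h a ha b hb, mul_inv_cancel_right]; exact hb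
  · intro hb
    have h1 := h a⁻¹ (inv_mem ha) _ hb
    have h2 : b = a * b * a⁻¹ := by
      have e1 : a⁻¹ * (a * b * a⁻¹) = b * a⁻¹ := by group
      rw [e1] at h1
      have := congrArg (· * a) h1
      simpa [mul_assoc] using this
    rw [h2]; exact hb

theorem zpowers_comm {G : Type*} [Group G] {a b : G} (h : Commute a b) :
    ∀ x ∈ zpowers a, ∀ y ∈ zpowers b, x * y = y * x := by
  rintro _ ⟨m, rfl⟩ _ ⟨n, rfl⟩
  exact (h.zpow_zpow m n).eq

/-- a `3`-subgroup generated by a wreath product -/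
theorem exists_wreath {G : Type*} [Group G] {c g : G} (hc3 : c ^ 3 = 1) (hg3 : g ^ 3 = 1)
    (h : Commute c (g * c * g⁻¹)) : ∃ P : Subgroup G, IsPGroup 3 P ∧ c ∈ P ∧ g ∈ P := by
  have : Fact (Nat.Prime 3) := ⟨Nat.prime_three⟩
  have hz : ∀ a : G, a ^ 3 = 1 → IsPGroup 3 (zpowers a) := by
    rintro a ha ⟨_, n, rfl⟩
    refine ⟨1, Subtype.ext ?_⟩
    show (a ^ n) ^ 3 ^ 1 = 1
    rw [pow_one, ← zpow_natCast, ← zpow_mul, mul_comm, zpow_mul]
    have : a ^ ((3 : ℕ) : ℤ) = 1 := by rw [zpow_natCast, ha]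
    rw [this, one_zpow]
  set c2 := g * c * g⁻¹ with hc2
  set c3 := g * c2 * g⁻¹ with hc3'
  have hconj : ∀ {a b : G}, Commute a b → Commute (g * a * g⁻¹) (g * b * g⁻¹) := by
    intro a b hab
    show g * a * g⁻¹ * (g * b * g⁻¹) = g * b * g⁻¹ * (g * a * g⁻¹)
    have e1 : g * a * g⁻¹ * (g * b * g⁻¹) = g * (a * b) * g⁻¹ := by group
    have e2 : g * b * g⁻¹ * (g * a * g⁻¹) = g * (b * a) * g⁻¹ := by group
    rw [e1, e2, hab.eq]
  have h23 : Commute c2 c3 := hconj h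
  have hc1 : g * c3 * g⁻¹ = c := by
    rw [hc3', hc2]
    have h3 : g * g * g = 1 := by rw [← hg3]; simp [pow_succ]
    have e : g * (g * (g * c * g⁻¹) * g⁻¹) * g⁻¹ = (g * g * g) * c * (g * g * g)⁻¹ := by simp only [mul_inv_rev, mul_assoc]
    rw [e, h3, one_mul, inv_one, mul_one]
  have h31 : Commute c3 c := by
    have := hconj h23
    rwa [hc1] at this
  have h2 : c2 ^ 3 = 1 := by rw [hc2, conj_pow, hc3]; group
  have h3 : c3 ^ 3 = 1 := by rw [hc3', conj_pow, h2]; group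
  have hB1 : IsPGroup 3 (zpowers c ⊔ zpowers c2 : Subgroup G) :=
    (hz c hc3).to_sup_of_normal_right' (hz c2 h2) (le_normalizer_of_comm (zpowers_comm h))
  have hB : IsPGroup 3 ((zpowers c ⊔ zpowers c2) ⊔ zpowers c3 : Subgroup G) := by
    refine hB1.to_sup_of_normal_right' (hz c3 h3) ?_
    exact sup_le (le_normalizer_of_comm (zpowers_comm h31.symm)) (le_normalizer_of_comm (zpowers_comm h23))
  have hmap : ((zpowers c ⊔ zpowers c2) ⊔ zpowers c3 : Subgroup G).map (MulAut.conj g).toMonoidHom =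
      (zpowers c ⊔ zpowers c2) ⊔ zpowers c3 := by
    rw [Subgroup.map_sup, Subgroup.map_sup, MonoidHom.map_zpowers, MonoidHom.map_zpowers, MonoidHom.map_zpowers]
    have e1 : (MulAut.conj g).toMonoidHom c = c2 := rfl
    have e2 : (MulAut.conj g).toMonoidHom c2 = c3 := rfl
    have e3 : (MulAut.conj g).toMonoidHom c3 = c := hc1
    rw [e1, e2, e3]
    rw [sup_comm (zpowers c2 ⊔ zpowers c3), ← sup_assoc]
  have hg : g ∈ normalizer (((zpowers c ⊔ zpowers c2) ⊔ zpowers c3 : Subgroup G) : Set G) := by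
    rw [Subgroup.mem_normalizer_iff]
    intro x
    constructor
    · intro hx
      have : (MulAut.conj g).toMonoidHom x ∈
          ((zpowers c ⊔ zpowers c2) ⊔ zpowers c3 : Subgroup G).map (MulAut.conj g).toMonoidHom := ⟨x, hx, rfl⟩
      rw [hmap] at this
      exact this
    · intro hx
      have h4 : g * x * g⁻¹ ∈
          ((zpowers c ⊔ zpowers c2) ⊔ zpowers c3 : Subgroup G).map (MulAut.conj g).toMonoidHom := by
        rw [hmap]; exact hx
      obtain ⟨b, hb, e⟩ := h4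
      have e' : g * b * g⁻¹ = g * x * g⁻¹ := e
      have : b = x := mul_left_cancel (mul_right_cancel e')
      rw [← this]; exact hb
  refine ⟨zpowers g ⊔ ((zpowers c ⊔ zpowers c2) ⊔ zpowers c3), ?_, ?_, ?_⟩
  · refine (hz g hg3).to_sup_of_normal_right' hB ?_
    rw [zpowers_le]; exact hg
  · exact (le_sup_right : _ ≤ zpowers g ⊔ _) ((le_sup_left : _ ≤ (zpowers c ⊔ zpowers c2) ⊔ zpowers c3)
      ((le_sup_left : _ ≤ zpowers c ⊔ zpowers c2) (mem_zpowers c)))
  · exact (le_sup_left : zpowers g ≤ _) (mem_zpowers g)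

theorem phi_sr {φ : (Fin 6 → ℤ) → k} (h : IsMC φ) {fc fg : (Fin 6 → ℤ) → (Fin 6 → ℤ)}
    (hc : ∀ x, φ (fc x) = φ x) (hg : ∀ x, φ (fg x) = φ x) (h3 : ∀ x, φ x ^ 3 = 1) {i : Fin 6} {a b y : Fin 6 → ℤ}
    (e : (sr i : Fin 6 → ℤ) = (fc a - a) + (fg b - b) + (3 : ℕ) • y) : φ (sr i) = 1 := by
  rw [e, h.add, h.add, h.sub, h.sub, h.nsmul, hc, hg, h3, div_self (h.ne_zero a), div_self (h.ne_zero b), one_mul,
    one_mul]

/-- **The row of `E₆` type groups at `p = 3`.** -/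
theorem rowS_three (hp : IsType chevE6 6 CoxeterMatrix.E₆) {W : Type v} [Group W]
    (cs : CoxeterSystem CoxeterMatrix.E₆ W) (hr3 : r ≠ 3) (hZ : center ↥(chevE6.group k) = ⊥) {S : Type*} [Group S]
    [Finite S] (hZS : center S = ⊥) (hpS : 3 ∣ Nat.card S) {ι : S →* ↥(chevE6.group k)} {v : ↥(chevE6.group k)}
    (H : TorSetup hp hk r cs 3 ι v) : RowS 3 S := by
  have hfin : Finite W := finite_W hp cs
  have : Fact (Nat.Prime 3) := ⟨Nat.prime_three⟩
  have : NeZero ((3 : ℕ) : k) := ⟨fun h0 => by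
    rw [CharP.cast_eq_zero_iff k r] at h0
    exact hr3 ((Nat.prime_dvd_prime_iff_eq Fact.out Nat.prime_three).1 h0)⟩
  obtain ⟨ζ, hζ⟩ := HasEnoughRootsOfUnity.exists_primitiveRoot k 3
  have hTL : TL (Tj hp (k := k)) = TT chevE6 k := TL_eq hp hk
  have hXL : XL (Xj hp (k := k)) = XX chevE6 6 k := XL_eq hp hk
  have C : Coords cs hp.isCartan (TL (Tj hp (k := k))) (nc hp k) (XL (Xj hp (k := k))) (xc hp) (ch hp) := by
    rw [hTL, hXL]; exact coordsL hp cs hk r
  -- the tables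
  have tC : Tab cs hp.isCartan (cs.wordProd [0, 2]) TC := tab_word cs hp.isCartan cartanE6 wordC
  have tD : Tab cs hp.isCartan (cs.wordProd [5, 4]) TD := tab_word cs hp.isCartan cartanE6 wordD
  have tG : Tab cs hp.isCartan (cs.wordProd [3, 1, 4, 3, 2, 0, 5, 4, 3, 1, 2, 3]) TG :=
    tab_word cs hp.isCartan cartanE6 wordG
  have tS : Tab cs hp.isCartan (cs.wordProd [3, 2, 0, 4, 3, 2, 5, 4, 3]) TS := tab_word cs hp.isCartan cartanE6 wordS
  set c := cs.wordProd [0, 2] with hcdef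
  set d := cs.wordProd [5, 4] with hddef
  set g := cs.wordProd [3, 1, 4, 3, 2, 0, 5, 4, 3, 1, 2, 3] with hgdef
  set w₀ := cs.wordProd [3, 2, 0, 4, 3, 2, 5, 4, 3] with hwdef
  have hc3 : c ^ 3 = 1 := by
    have h1 : c ^ 3 = c * c * c := by simp [pow_succ]
    rw [h1]
    have h2 := (tC.mul tC).mul tC
    rw [TC3] at h2
    exact tab_unique hp cs h2 (tab_id cs hp.isCartan)
  have hg3 : g ^ 3 = 1 := by
    have h1 : g ^ 3 = g * g * g := by simp [pow_succ]
    rw [h1]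
    have h2 := (tG.mul tG).mul tG
    rw [TG3] at h2
    exact tab_unique hp cs h2 (tab_id cs hp.isCartan)
  have hw2 : w₀ * w₀ = 1 := by
    have h2 := tS.mul tS
    rw [TS2] at h2
    exact tab_unique hp cs h2 (tab_id cs hp.isCartan)
  have hgc : g * c * g⁻¹ = d := by
    have h1 : g * c = d * g := by
      have h2 := tG.mul tC
      have h3 := tD.mul tG
      rw [TGC] at h2
      exact tab_unique hp cs h2 h3
    rw [h1, mul_inv_cancel_right]
  have hcd : Commute c (g * c * g⁻¹) := by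
    rw [hgc]
    have h2 := tC.mul tD
    have h3 := tD.mul tC
    rw [TCD] at h2
    exact tab_unique hp cs h2 h3
  obtain ⟨P, hP, hcP, hgP⟩ := exists_wreath hc3 hg3 hcd
  obtain ⟨X, hX, hXt, hXl⟩ := exists_pgroup hp hk r cs H hP
  obtain ⟨Q, hQ⟩ := hX.exists_le_sylow
  refine H681.GmnRankOne.rowS_of_central_real (by norm_num) hZS hpS Q fun z _ _ hz hcen => ?_
  -- `z` lies in the torus
  set z' := v⁻¹ * ι z * v with hz'
  have hcomm : ∀ s ∈ X, (v⁻¹ * ι s * v) * z' = z' * (v⁻¹ * ι s * v) := by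
    intro s hs
    have h1 := congrArg ι (hcen s (hQ hs))
    rw [map_mul, map_mul] at h1
    rw [hz']
    calc v⁻¹ * ι s * v * (v⁻¹ * ι z * v) = v⁻¹ * (ι s * ι z) * v := by group
      _ = v⁻¹ * (ι z * ι s) * v := by rw [h1]
      _ = _ := by group
  have hζ0 : ζ ≠ 0 := hζ.ne_zero (by norm_num)
  have hdm : DistMod hp cs 3 := by
    intro a b ha hb hab
    obtain ⟨s, hs, rfl⟩ := (isRoot_iff hp cs a).1 ha
    obtain ⟨t, ht, rfl⟩ := (isRoot_iff hp cs b).1 hb
    rw [nroots_E6] at hs ht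
    have := dist_table ⟨s, hs⟩ ⟨t, ht⟩ (by rw [← cartanE6]; exact hab)
    have h2 : s = t := congrArg Fin.val this
    rw [h2]
  have hzT : z' ∈ TT chevE6 k := by
    refine cent_hc hp hk r cs Nat.prime_three hζ hdm fun j => ?_
    obtain ⟨s, hs⟩ := H.tors j ζ hζ.pow_eq_one
    have e : v⁻¹ * ι s * v = hc hp j ζ := by rw [hs]; group
    have hs3 : s ^ 3 = 1 := by
      apply H.inj
      rw [map_pow, hs, conj_pow, map_one]
      have h1 : (hc hp j ζ : ↥(chevE6.group k)) ^ 3 = 1 := by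
        refine eq_one_TT hp cs hk r hZ (pow_mem (hc_mem hp j hζ0) 3) fun a ha => ?_
        rw [ch_pow hp cs hk r ha (hc_mem hp j hζ0), ch_hc' hp hk r cs hζ0 j ha, ← zpow_natCast, ← zpow_mul, mul_comm,
          zpow_mul, zpow_natCast, hζ.pow_eq_one, one_zpow]
      rw [h1]; group
    have h2 := hcomm s (hXt s (by rw [e]; exact hc_mem hp j hζ0) hs3)
    rw [e] at h2
    exact h2.symm
  have hz3 : z' ^ 3 = 1 := by
    have h1 : z' ^ 3 = v⁻¹ * ι z ^ 3 * v := by
      have := (conj_pow (i := 3) (a := v⁻¹) (b := ι z))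
      rw [inv_inv] at this
      exact this
    rw [h1, ← map_pow, hz, map_one]; group
  have hφ : IsMC (cX hp z') := isMC_cX hp hzT
  have hφ3 : ∀ x, cX hp z' x ^ 3 = 1 := fun x => by
    rw [← H129.TorusChar.cX_pow hp hzT, hz3, H129.TorusChar.cX_one]
  have hinv : ∀ w ∈ P, ∀ x, cX hp z' (rep cs hp.isCartan w x) = cX hp z' x := by
    intro w hw
    obtain ⟨s, hs, hn⟩ := hXl w hw
    refine IsMC.ext (hφ.comp (rep cs hp.isCartan w).toAddMonoidHom) hφ fun i => ?_
    have hi := isRoot_sr cs hp.isCartan i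
    show cX hp z' (rep cs hp.isCartan w (sr i)) = _
    rw [cX_root hp cs hzT (hi.act w), cX_root hp cs hzT hi]
    have h1 := C.chi_rp _ hn hi (t := z') (by rw [hTL]; exact hzT)
    have h2 : v⁻¹ * ι s * v * z' * (v⁻¹ * ι s * v)⁻¹ = z' := by rw [hcomm s hs, mul_inv_cancel_right]
    rwa [h2] at h1
  have hone : ∀ i : Fin 6, i ≠ 3 → cX hp z' (sr i) = 1 := by
    have key : ∀ (i : Fin 6) (a b y : Fin 6 → ℤ), (∀ m, (Pi.single i 1 : Fin 6 → ℤ) m =
        ((∑ j, a j * TC j m) - a m) + ((∑ j, b j * TG j m) - b m) + 3 * y m) → cX hp z' (sr i) = 1 := by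
      intro i a b y hy
      refine phi_sr hφ (hinv c hcP) (hinv g hgP) hφ3 (a := a) (b := b) (y := y) ?_
      rw [tC.apply, tG.apply]
      funext m
      simp only [Pi.add_apply, Pi.sub_apply, nsmul_eq_mul, Nat.cast_ofNat]
      exact hy m
    intro i hi
    fin_cases i
    · exact key 0 ![0, 0, 1, -1, 0, 0] ![0, 0, 0, 0, 0, 0] ![1, 0, 1, 0, 0, 0] (by decide +kernel)
    · exact key 1 ![0, 0, 1, -1, 0, 0] ![0, -1, 0, 0, 0, 0] ![1, 0, 1, 0, 0, 0] (by decide +kernel)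
    · exact key 2 ![-1, 0, 0, -1, 0, 0] ![0, 0, 0, 0, 0, 0] ![0, 0, 1, 0, 0, 0] (by decide +kernel)
    · exact absurd rfl hi
    · exact key 4 ![-1, 0, 0, -1, 0, 0] ![0, 0, 1, 0, 0, 0] ![0, 0, 1, 0, 0, 0] (by decide +kernel)
    · exact key 5 ![0, 0, 1, -1, 0, 0] ![1, 0, 0, 0, 0, 0] ![1, 0, 1, 0, 0, 0] (by decide +kernel)
  have hval : ∀ x : Fin 6 → ℤ, cX hp z' x = cX hp z' (sr 3) ^ x 3 := by
    intro x
    rw [hφ.eq_prod x, Finset.prod_eq_single 3]
    · intro j _ hj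
      rw [hone j hj, one_zpow]
    · intro h; exact absurd (Finset.mem_univ _) h
  -- the inverting element
  obtain ⟨s, hs⟩ := H.lift w₀
  have hnz : (v⁻¹ * ι s * v) * z' * (v⁻¹ * ι s * v)⁻¹ ∈ TT chevE6 k := by
    have := (Subgroup.mem_normalizer_iff.1 hs.mem_normalizer z').1 (by rw [hTL]; exact hzT)
    rwa [hTL] at this
  have hneg : (v⁻¹ * ι s * v) * z' * (v⁻¹ * ι s * v)⁻¹ = z'⁻¹ := by
    refine ext_TT hp cs hk r hZ hnz (inv_mem hzT) fun a ha => ?_
    have h1 := C.chi_rp _ hs (ha.act w₀) (t := z') (by rw [hTL]; exact hzT)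
    rw [← rep_mul_apply, hw2, map_one, Module.End.one_apply] at h1
    rw [h1, ch_inv hp cs hk r ha hzT, ← cX_root hp cs hzT (ha.act w₀), ← cX_root hp cs hzT ha]
    have h2 : ∀ x : Fin 6 → ℤ, cX hp z' (rep cs hp.isCartan w₀ x) = cX hp z' (-x) := by
      refine IsMC.ext (hφ.comp (rep cs hp.isCartan w₀).toAddMonoidHom) (hφ.comp (-AddMonoidHom.id _)) fun i => ?_
      show cX hp z' (rep cs hp.isCartan w₀ (sr i)) = cX hp z' (-(sr i))
      rw [hval (rep cs hp.isCartan w₀ (sr i)), hval (-(sr i)), tS i]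
      have h3 : cX hp z' (sr 3) ^ (3 : ℤ) = 1 := by exact_mod_cast hφ3 (sr 3)
      have h4 : ∀ i : Fin 6, (3 : ℤ) ∣ TS i 3 - (-(Pi.single i 1 : Fin 6 → ℤ)) 3 := by decide +kernel
      obtain ⟨n, hn⟩ := h4 i
      have h5 : TS i 3 = 3 * n + (-(sr i : Fin 6 → ℤ)) 3 := by
        have : (sr i : Fin 6 → ℤ) = Pi.single i 1 := rfl
        rw [this]; linarith
      rw [h5, zpow_add₀ (hφ.ne_zero _), zpow_mul, h3, one_zpow, one_mul]
    rw [h2, hφ.neg]
  rw [isConj_iff]
  refine ⟨s, H.inj ?_⟩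
  rw [map_mul, map_mul, map_inv, map_inv]
  calc ι s * ι z * (ι s)⁻¹ = v * ((v⁻¹ * ι s * v) * z' * (v⁻¹ * ι s * v)⁻¹) * v⁻¹ := by rw [hz']; group
    _ = v * z'⁻¹ * v⁻¹ := by rw [hneg]
    _ = _ := by rw [hz']; group

end Main

end Cfsg.Agent.H696.GmnThree

private theorem dce_68496354fd5a : _root_.True := by
  try have : _root_.True := by simp only [_root_.Cfsg.Agent.H129.TorusChar.cX.congr_simp]
  exact _root_.True.intro
end
end
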